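import Cfsg.Agent.TwoTimesAlt.Model
import Cfsg.Agent.JankoOne.Iso.Main

/-!
The case `2 × A₅`: the group is Janko's first group.
-/

set_option autoImplicit false
set_option linter.unusedSectionVars false

namespace Cfsg.Lib.TwoTimesAlt

open Subgroup

universe u

variable {G : Type u} [Group G] [Finite G] {J : G} {T : Subgroup G}

theorem Hyp.simple_T (H : Hyp G J T 5) : IsSimpleGroup T := by
  obtain ⟨e⟩ := H.iso
  haveI : Nontrivial T := e.toEquiv.nontrivial
  exact IsSimpleGroup.isSimpleGroup_of_surjective e.symm.toMonoidHom e.symm.surjective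

theorem comm_mem {Γ : Type*} [Group Γ] {M : Subgroup Γ} (hM : M.index = 2) (a b : Γ) :
    a * b * a⁻¹ * b⁻¹ ∈ M := by
  simp only [mul_mem_iff_of_index_two hM, inv_mem_iff]
  tauto

theorem five_noncomm : ∃ a b : alternatingGroup (Fin 5), a * b * a⁻¹ * b⁻¹ ≠ 1 := by decide +kernel

/-- A subgroup of index two contains every copy of `T`. -/
theorem Hyp.le_of_index_two (H : Hyp G J T 5) {Γ : Type*} [Group Γ] (f : T →* Γ) {M : Subgroup Γ} [M.Normal]
    (hM : M.index = 2) : ∀ p : T, f p ∈ M := by
  haveI := H.simple_T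
  obtain ⟨e⟩ := H.iso
  rcases (inferInstance : (M.comap f).Normal).eq_bot_or_eq_top with h | h
  · exfalso
    obtain ⟨a, b, hab⟩ := five_noncomm
    apply hab
    have : e.symm (a * b * a⁻¹ * b⁻¹) ∈ M.comap f := by
      rw [mem_comap, map_mul, map_mul, map_mul, map_mul, map_mul, map_mul, map_inv, map_inv, map_inv, map_inv]
      exact comm_mem hM _ _
    rw [h, mem_bot, ← map_one e.symm] at this
    exact e.symm.injective this
  · exact fun p => mem_comap.1 (h ▸ mem_top p)

theorem Hyp.isSimple (H : Hyp G J T 5) : IsSimpleGroup G := by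
  classical
  haveI := H.simple_T
  have hp : Fact (Nat.Prime 2) := ⟨Nat.prime_two⟩
  have hJ1 : J ≠ 1 := fun h => by have := H.central.1; rw [h, orderOf_one] at this; norm_num at this
  haveI : Nontrivial G := ⟨⟨J, 1, hJ1⟩⟩
  have hclass := H.one_class
  obtain ⟨e⟩ := H.iso
  refine ⟨fun N hN => ?_⟩
  by_cases h2 : 2 ∣ Nat.card N
  · right
    obtain ⟨⟨x, hxN⟩, hxo⟩ := exists_prime_orderOf_dvd_card' 2 h2
    rw [orderOf_mk] at hxo
    have hxx : x * x = 1 := by rw [← pow_two, ← hxo, pow_orderOf_eq_one]
    have hx1 : x ≠ 1 := fun h => by simp [h] at hxo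
    have hall : ∀ y : G, y * y = 1 → y ∈ N := by
      intro y hy
      by_cases hy1 : y = 1
      · rw [hy1]; exact one_mem N
      obtain ⟨g, hg⟩ := isConj_iff.1 ((hclass x hxx hx1).symm.trans (hclass y hy hy1))
      exact hg ▸ hN.conj_mem x hxN g
    obtain ⟨a, haa, ha1⟩ : ∃ a : alternatingGroup (Fin 5), a * a = 1 ∧ a ≠ 1 := by decide +kernel
    haveI : (N.subgroupOf T).Normal := hN.subgroupOf T
    have hTN : T ≤ N := by
      rcases (inferInstance : (N.subgroupOf T).Normal).eq_bot_or_eq_top with h | h
      · exfalso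
        refine ha1 (e.symm.injective ?_)
        rw [map_one, ← mem_bot, ← h, mem_subgroupOf]
        exact hall _ (by rw [← Subgroup.coe_mul, ← map_mul, haa, map_one]; rfl)
      · exact subgroupOf_eq_top.1 h
    have hJN : J ∈ N := hall J H.sq
    have hC : centralizer ({J} : Set G) ≤ N := by
      rw [← H.prod.2.2.2.2]; exact sup_le (zpowers_le.2 hJN) hTN
    -- the hypotheses hold in `N`
    have hcentral : Cfsg.IsTwoCentralInvolution (⟨J, hJN⟩ : N) := by
      obtain ⟨ho, P, hJP, hPc⟩ := H.central
      have hPN : (P : Subgroup G) ≤ N := fun y hy => hC (mem_centralizer_singleton_iff.2 (hPc y hy))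
      refine ⟨by rw [orderOf_mk]; exact ho, P.subtype hPN, hJP, fun y hy => Subtype.ext (hPc y hy)⟩
    have Hh2 : ∀ M : Subgroup N, M.Normal → M.index ≠ 2 := by
      intro M hM hi
      -- every involution lies in a conjugate of `T`, hence in `M`
      have hinv : ∀ y : N, y * y = 1 → y ∈ M := by
        intro y hy
        by_cases hy1 : y = 1
        · rw [hy1]; exact one_mem M
        have hya : ((e.symm a : T) : G) * (e.symm a : T) = 1 := by
          rw [← Subgroup.coe_mul, ← map_mul, haa, map_one]; rfl
        have hya1 : ((e.symm a : T) : G) ≠ 1 := fun h => ha1 (e.symm.injective (Subtype.ext (by rw [map_one]; exact h)))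
        obtain ⟨g, hg⟩ := isConj_iff.1 ((hclass _ hya hya1).symm.trans
          (hclass (y : G) (congrArg Subtype.val hy) (fun h => hy1 (Subtype.ext h))))
        let f : T →* N := MonoidHom.codRestrict ((MulAut.conj g).toMonoidHom.comp T.subtype) N
          (fun p => hN.conj_mem _ (hTN p.2) g)
        have := H.le_of_index_two f hi (e.symm a)
        rwa [show f (e.symm a) = y from Subtype.ext hg] at this
      obtain ⟨-, P, hJP, hPc⟩ := hcentral
      have hJM := hinv ⟨J, hJN⟩ (Subtype.ext H.sq)
      have hPM : (P : Subgroup N) ≤ M := by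
        intro y hy
        obtain ⟨p, hp, hyp⟩ := H.split (x := (y : G))
          (mem_centralizer_singleton_iff.2 (congrArg Subtype.val (hPc y hy)))
        let f : T →* N := inclusion hTN
        have hpM := H.le_of_index_two f hi ⟨p, hp⟩
        rcases hyp with h | h
        · rwa [show f ⟨p, hp⟩ = y from Subtype.ext h.symm] at hpM
        · have := mul_mem hJM hpM
          rwa [show (⟨J, hJN⟩ : N) * f ⟨p, hp⟩ = y from Subtype.ext h.symm] at this
      have hdvd := Subgroup.index_dvd_of_le hPM
      rw [hi] at hdvd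
      exact P.not_dvd_index hdvd
    have hTi : Nonempty (↥(T.subgroupOf N) ≃* ↥(alternatingGroup (Fin 5))) :=
      ⟨(subgroupOfEquivOfLe hTN).trans e⟩
    have hzmap : (zpowers (⟨J, hJN⟩ : N)).map N.subtype = zpowers J := MonoidHom.map_zpowers _ _
    have HN : Hyp N ⟨J, hJN⟩ (T.subgroupOf N) 5 := by
      refine ⟨Hh2, hcentral, hTi, ?_, ?_, ?_, ?_, ?_⟩
      · exact zpowers_le.2 (mem_centralizer_singleton_iff.2 rfl)
      · intro p hp
        rw [mem_centralizer_singleton_iff]
        exact Subtype.ext (H.comm hp).symm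
      · intro p hp q hq
        exact Subtype.ext (H.prod.2.2.1 p (hzmap ▸ mem_map_of_mem N.subtype hp) q hq)
      · refine eq_bot_iff.2 fun p hp => ?_
        have : (p : G) ∈ zpowers J ⊓ T := ⟨hzmap ▸ mem_map_of_mem N.subtype hp.1, hp.2⟩
        rw [H.prod.2.2.2.1, mem_bot] at this
        exact mem_bot.2 (Subtype.ext this)
      · refine le_antisymm (sup_le (zpowers_le.2 (mem_centralizer_singleton_iff.2 rfl)) ?_) ?_
        · intro p hp
          rw [mem_centralizer_singleton_iff]
          exact Subtype.ext (H.comm hp).symm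
        · intro y hy
          obtain ⟨p, hp, hyp⟩ := H.split (x := (y : G))
            (mem_centralizer_singleton_iff.2 (congrArg Subtype.val (mem_centralizer_singleton_iff.1 hy)))
          rcases hyp with h | h
          · exact mem_sup_right (h ▸ hp : (y : G) ∈ T)
          · have : y = ⟨J, hJN⟩ * ⟨p, hTN hp⟩ := Subtype.ext h
            rw [this]
            exact mul_mem_sup (mem_zpowers _) hp
    rw [eq_top_iff]
    intro g _
    obtain ⟨n, hn⟩ := isConj_iff.1 (HN.one_class ⟨g * J * g⁻¹, hN.conj_mem J hJN g⟩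
      (Subtype.ext (by
        show g * J * g⁻¹ * (g * J * g⁻¹) = 1
        calc _ = g * (J * J) * g⁻¹ := by group
          _ = 1 := by rw [H.sq]; group))
      (fun h => hJ1 (by
        have h' : g * J * g⁻¹ = 1 := congrArg Subtype.val h
        calc J = g⁻¹ * (g * J * g⁻¹) * g := by group
          _ = 1 := by rw [h']; group)))
    have hn' : (n : G) * J * (n : G)⁻¹ = g * J * g⁻¹ := congrArg Subtype.val hn
    have hc : (n : G)⁻¹ * g ∈ N := hC (mem_centralizer_singleton_iff.2 (by
      calc (n : G)⁻¹ * g * J = (n : G)⁻¹ * (g * J * g⁻¹) * g := by group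
        _ = J * ((n : G)⁻¹ * g) := by rw [← hn']; group))
    have := mul_mem n.2 hc
    rwa [mul_inv_cancel_left] at this
  · left
    -- no fixed points
    have hfreeJ : ∀ x : G, x * x = 1 → x ≠ 1 → ∀ n ∈ N, n * x = x * n → n = 1 := by
      intro x hxx hx1 n hn hnx
      obtain ⟨g, hg⟩ := isConj_iff.1 (hclass x hxx hx1)
      have hn' : g⁻¹ * n * g ∈ N := by
        have := hN.conj_mem n hn g⁻¹
        rwa [inv_inv] at this
      have hcen : g⁻¹ * n * g ∈ centralizer ({J} : Set G) := by
        rw [mem_centralizer_singleton_iff]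
        rw [← hg] at hnx
        calc g⁻¹ * n * g * J = g⁻¹ * (n * (g * J * g⁻¹)) * g := by group
          _ = J * (g⁻¹ * n * g) := by rw [hnx]; group
      suffices hkey : g⁻¹ * n * g = 1 by
        calc n = g * (g⁻¹ * n * g) * g⁻¹ := by group
          _ = 1 := by rw [hkey]; group
      set c := g⁻¹ * n * g with hc
      obtain ⟨p, hp, hcp⟩ := H.split hcen
      have hcp : c = p := by
        rcases hcp with h | h
        · exact h
        exfalso
        have hoc : Odd (orderOf c) := Nat.odd_iff.2 (Nat.two_dvd_ne_zero.1 fun h2' => h2 (h2'.trans (by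
          have := orderOf_dvd_natCard (⟨c, hn'⟩ : N)
          rwa [orderOf_mk] at this)))
        obtain ⟨i, hi⟩ := hoc
        apply H.J_notMem
        have hsq : c * c = p * p := by
          rw [h]
          calc J * p * (J * p) = J * (p * J) * p := by group
            _ = p * p := by rw [← H.comm hp, ← mul_assoc J J p, H.sq, one_mul]
        have hcT : c = (p * p) ^ (i + 1) := by
          rw [← hsq, ← pow_two, ← pow_mul, show 2 * (i + 1) = orderOf c + 1 by omega, pow_succ, pow_orderOf_eq_one,
            one_mul]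
        have hJ : J = c * p⁻¹ := by rw [h, mul_inv_cancel_right]
        rw [hJ, hcT]
        exact mul_mem (pow_mem (mul_mem hp hp) _) (inv_mem hp)
      haveI : (N.subgroupOf T).Normal := hN.subgroupOf T
      rcases (inferInstance : (N.subgroupOf T).Normal).eq_bot_or_eq_top with h | h
      · have : (⟨p, hp⟩ : T) ∈ N.subgroupOf T := by rw [mem_subgroupOf]; exact hcp ▸ hn'
        rw [h, mem_bot] at this
        rw [hcp]; exact congrArg Subtype.val this
      · exfalso
        obtain ⟨a, haa, ha1⟩ : ∃ a : alternatingGroup (Fin 5), a * a = 1 ∧ a ≠ 1 := by decide +kernel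
        refine ha1 (e.symm.injective (Subtype.ext ?_))
        rw [map_one]
        exact odd_orders h2 (subgroupOf_eq_top.1 h (e.symm a).2) (by rw [← Subgroup.coe_mul, ← map_mul, haa, map_one]; rfl)
    obtain ⟨a, haa, ha1⟩ : ∃ a : alternatingGroup (Fin 5), a * a = 1 ∧ a ≠ 1 := by decide +kernel
    set u : G := ((e.symm a : T) : G) with hu
    have huu : u * u = 1 := by rw [hu, ← Subgroup.coe_mul, ← map_mul, haa, map_one]; rfl
    have hu1 : u ≠ 1 := fun h => ha1 (e.symm.injective (Subtype.ext (by rw [map_one]; exact h)))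
    have hJu : J * u = u * J := H.comm (e.symm a).2
    have hJu1 : J * u ≠ 1 := fun h => H.J_notMem (by
      rw [eq_inv_of_mul_eq_one_left h]; exact inv_mem (e.symm a).2)
    have hJuu : J * u * (J * u) = 1 := by
      calc J * u * (J * u) = J * (u * J) * u := by group
        _ = 1 := by rw [← hJu, ← mul_assoc J J u, H.sq, one_mul, huu]
    rw [eq_bot_iff]
    intro n hn
    have i1 := inverts h2 H.sq (hfreeJ J H.sq hJ1) n hn
    have i2 := inverts h2 huu (hfreeJ u huu hu1) n⁻¹ (inv_mem hn)
    have hfix : n * (J * u) = J * u * n := by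
      have hJi : J⁻¹ = J := inv_eq_of_mul_eq_one_left H.sq
      have hui : u⁻¹ = u := inv_eq_of_mul_eq_one_left huu
      have h3 : u * (J * n * J) * u = n := by rw [i1, i2, inv_inv]
      calc n * (J * u) = u * (J * n * J) * u * (J * u) := by rw [h3]
        _ = u * J * n * (J * (u * J) * u) := by group
        _ = J * u * n := by rw [← hJu, ← mul_assoc J J u, H.sq, one_mul, huu, mul_one]
    exact mem_bot.2 (hfreeJ _ hJuu hJu1 n hn hfix)

theorem Hyp.isoJOne (H : Hyp G J T 5) : Cfsg.Spor.IsoJ1 G := by
  haveI := H.isSimple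
  obtain ⟨f⟩ := H.equiv
  exact Cfsg.Lib.JankoOne.Iso.isoJOne J H.central f

end Cfsg.Lib.TwoTimesAlt
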