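import Cfsg.Agent.TwoTimesAlt.Gens
import Cfsg.Agent.Known.AutPSL2

/-!
The automorphism group of `PSL(2, 8)` satisfies the relations.
-/

set_option autoImplicit false
set_option linter.unusedSectionVars false

namespace Cfsg.Lib.TwoTimesAlt

open Subgroup Matrix
open Cfsg.Lib.Known.AutPSL2

variable {F : Type} [Field F] [Fintype F] [CharP F 2] [Algebra (ZMod 2) F] [Fact (Nat.Prime 2)]

local notation "P" => Matrix.ProjectiveSpecialLinearGroup (Fin 2) F

theorem exists_zeta (hF : Fintype.card F = 8) : ∃ ζ : Fˣ, (ζ : F) ^ 3 = ζ + 1 ∧ ζ ≠ 1 ∧ ζ ^ 7 = 1 := by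
  classical
  obtain ⟨a, ha⟩ : ∃ a : Fˣ, a ≠ 1 := Fintype.exists_ne_of_one_lt_card (by rw [Fintype.card_units, hF]; norm_num) 1
  have h7 : a ^ 7 = 1 := by
    have := pow_card_eq_one (x := a)
    rwa [Fintype.card_units, hF] at this
  have h2 : (2 : F) = 0 := CharTwo.two_eq_zero
  have ha1 : (a : F) - 1 ≠ 0 := sub_ne_zero.2 fun h => ha (Units.ext h)
  have h7' : (a : F) ^ 7 = 1 := by rw [← Units.val_pow_eq_pow_val, h7, Units.val_one]
  have hprod : ((a : F) ^ 3 + a + 1) * ((a : F) ^ 3 + (a : F) ^ 2 + 1) = 0 := by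
    refine (mul_eq_zero.1 ?_).resolve_left ha1
    linear_combination h7' + ((a : F) ^ 4 - (a : F) ^ 3) * h2
  rcases mul_eq_zero.1 hprod with h | h
  · exact ⟨a, by linear_combination h - ((a : F) + 1) * h2, ha, h7⟩
  · refine ⟨a⁻¹, ?_, inv_ne_one.2 ha, by rw [inv_pow, h7, inv_one]⟩
    have hne : (a : F) ≠ 0 := a.ne_zero
    rw [Units.val_inv_eq_inv_val]
    field_simp
    linear_combination h - ((a : F) ^ 3 + (a : F) ^ 2) * h2

theorem conj_map' (α : MulAut P) (g : P) : α * MulAut.conj g * α⁻¹ = MulAut.conj (α g) :=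
  MulEquiv.ext fun z => by simp

/-- The Weyl element. -/
theorem tau_sq : π (uS (1 : F) * vS 1 * uS 1) * π (uS (1 : F) * vS 1 * uS 1) = 1 := by
  rw [← map_mul, show (uS (1 : F) * vS 1 * uS 1) * (uS 1 * vS 1 * uS 1) = 1 from sl_ext (by
    rw [cmul, cmul, cmul, coe_uS, coe_vS, cone]
    ext i j; fin_cases i <;> fin_cases j <;> simp [Matrix.mul_apply, Fin.sum_univ_two,
      CharTwo.add_self_eq_zero]), map_one]

theorem exists_rels (hF : Fintype.card F = 8) :
    ∃ s w y x : MulAut P, Rels s w y x ∧ closure {s, w, y, x} = (⊤ : Subgroup (MulAut P)) := by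
  classical
  obtain ⟨ζ, hζ, hζ1, hζ7⟩ := exists_zeta hF
  have h2 : (2 : F) = 0 := CharTwo.two_eq_zero
  have h8 : ∀ c : F, c ^ 8 = c := fun c => by rw [← hF]; exact FiniteField.pow_card c
  let Φ : F ≃ₐ[ZMod 2] F := AlgEquiv.ofRingEquiv (f := frobeniusEquiv F 2) fun z => by
    change ((frobenius F 2).comp (algebraMap (ZMod 2) F)) z = _
    rw [Subsingleton.elim ((frobenius F 2).comp (algebraMap (ZMod 2) F)) (algebraMap (ZMod 2) F)]
  have hΦ : ∀ c, Φ c = c ^ 2 := fun c => rfl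
  let τ : P := π (uS (1 : F) * vS 1 * uS 1)
  have hτu : ∀ c : F, τ * π (uS c) * τ⁻¹ = π (vS c) := fun c => by
    show π _ * π (uS c) * (π _)⁻¹ = _
    rw [← map_inv, ← map_mul, ← map_mul]
    congr 1
    refine sl_ext ?_
    rw [conj_uS, coe_vS, cmul, cmul, coe_uS, coe_vS]
    ext i j; fin_cases i <;> fin_cases j <;> simp [Matrix.mul_apply, Fin.sum_univ_two,
      CharTwo.add_self_eq_zero, CharTwo.neg_eq]
  have hτi : τ⁻¹ = τ := inv_eq_of_mul_eq_one_left tau_sq
  have hτv : ∀ c : F, τ * π (vS c) * τ⁻¹ = π (uS c) := fun c => by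
    rw [← hτu]
    calc τ * (τ * π (uS c) * τ⁻¹) * τ⁻¹ = τ * τ * π (uS c) * (τ * τ)⁻¹ := by group
      _ = _ := by rw [tau_sq]; group
  set s : MulAut P := MulAut.conj (π (uS (1 : F))) with hs
  set w : MulAut P := diagAut ζ with hw
  set y : MulAut P := fieldAut 2 Φ with hy
  set x : MulAut P := MulAut.conj τ with hx
  have hu2 : ∀ c : F, π (uS c) * π (uS c) = (1 : P) := fun c => by
    rw [← map_mul, ← uS_add, CharTwo.add_self_eq_zero,
      show (uS (0 : F) : Matrix.SpecialLinearGroup (Fin 2) F) = 1 from sl_ext (by rw [coe_uS, cone]; simp [one_fin_two]),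
      map_one]
  have hwn : ∀ (n : ℕ) (c : F), (w ^ n) (π (uS c)) = π (uS ((ζ : F) ^ n * c)) := fun n c => by
    rw [hw, ← map_pow, diagAut_u, Units.val_pow_eq_pow_val]
  have hxu : ∀ c : F, x (π (uS c)) = π (vS c) := hτu
  have hxv : ∀ c : F, x (π (vS c)) = π (uS c) := hτv
  have hR : Rels s w y x := by
    refine ⟨?_, ?_, ?_, ?_, ?_, ?_, ?_, ?_, ?_, ?_⟩
    · rw [hs, ← map_mul, hu2, map_one]
    · rw [hx, ← map_mul, tau_sq, map_one]
    · rw [hw, ← map_pow, hζ7, map_one]
    · rw [hy, ← map_pow]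
      rw [show Φ ^ 3 = 1 from AlgEquiv.ext fun c => by
        rw [pow_succ, pow_two]
        show Φ (Φ (Φ c)) = c
        rw [hΦ, hΦ, hΦ, ← pow_mul, ← pow_mul]
        exact h8 c, map_one]
    · rw [hy, hw, fieldAut_conj_diag, mul_inv_cancel_right, ← map_pow]
      exact congrArg diagAut (Units.ext (hΦ ζ))
    · refine aut_ext (fun c => ?_) (fun c => ?_)
      · rw [hw, ← map_inv, MulAut.mul_apply, MulAut.mul_apply, hxu, diagAut_v, hxv, diagAut_u]
      · rw [hw, ← map_inv, MulAut.mul_apply, MulAut.mul_apply, hxv, diagAut_u, hxu, diagAut_v, inv_inv]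
    · refine aut_ext (fun c => ?_) (fun c => ?_)
      · rw [MulAut.mul_apply, MulAut.mul_apply, hxu, hy, fieldAut_u, fieldAut_v, hxu]
      · rw [MulAut.mul_apply, MulAut.mul_apply, hxv, hy, fieldAut_u, fieldAut_v, hxv]
    · have h : y * s * y⁻¹ = s := by rw [hs, conj_map', hy, fieldAut_u, map_one]
      exact (mul_inv_eq_iff_eq_mul.1 h).symm
    · rw [hs, conj_map', conj_map', ← map_mul]
      refine congrArg MulAut.conj ?_
      have e1 := hwn 1 1
      rw [pow_one, pow_one, mul_one] at e1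
      rw [e1, hwn, mul_one, ← map_mul, ← uS_add, hζ, add_comm]
    · rw [hs, hx, ← map_mul, ← map_mul, ← map_mul]
      refine (congrArg MulAut.conj ?_).trans (map_one _)
      show π (uS 1) * π _ * (π (uS 1) * π _) * (π (uS 1) * π _) = (1 : P)
      rw [← map_mul, ← map_mul, ← map_mul]
      refine (congrArg π (sl_ext ?_)).trans (map_one _)
      rw [cmul, cmul, cmul, cmul, cmul, coe_uS, coe_vS, cone]
      ext i j; fin_cases i <;> fin_cases j <;> simp [Matrix.mul_apply, Fin.sum_univ_two,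
        CharTwo.add_self_eq_zero]
  refine ⟨s, w, y, x, hR, ?_⟩
  set K := closure ({s, w, y, x} : Set (MulAut P)) with hK
  have hsK : s ∈ K := subset_closure (by simp)
  have hwK : w ∈ K := subset_closure (by simp)
  have hyK : y ∈ K := subset_closure (by simp)
  have hxK : x ∈ K := subset_closure (by simp)
  have hζo : orderOf ζ = 7 := orderOf_eq_prime (hp := ⟨by norm_num⟩) hζ7 hζ1
  have hgen : ∀ a : Fˣ, ∃ n : ℕ, ζ ^ n = a := by
    intro a
    have htop : zpowers ζ = ⊤ := Subgroup.eq_top_of_card_eq _ (by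
      rw [Nat.card_zpowers, hζo, Nat.card_units, Nat.card_eq_fintype_card, hF])
    exact Submonoid.mem_powers_iff _ _ |>.1 (mem_powers_iff_mem_zpowers.2 (htop ▸ mem_top a))
  have hu : ∀ c : F, MulAut.conj (π (uS c)) ∈ K := by
    intro c
    by_cases hc : c = 0
    · rw [hc, show (uS (0 : F) : Matrix.SpecialLinearGroup (Fin 2) F) = 1 from
        sl_ext (by rw [coe_uS, cone]; simp [one_fin_two]), map_one, map_one]
      exact one_mem K
    obtain ⟨n, hn⟩ := hgen (Units.mk0 c hc)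
    have e : w ^ n * s * (w ^ n)⁻¹ = MulAut.conj (π (uS c)) := by
      rw [hs, conj_map', hwn, mul_one, ← Units.val_pow_eq_pow_val, hn, Units.val_mk0]
    exact e ▸ mul_mem (mul_mem (pow_mem hwK n) hsK) (inv_mem (pow_mem hwK n))
  have hinn : ∀ g : P, MulAut.conj g ∈ K := by
    intro g
    have h := closure_eq_top (K.comap MulAut.conj) hu (fun c => by
      show MulAut.conj (π (vS c)) ∈ K
      rw [← hxu, ← conj_map' x]
      exact mul_mem (mul_mem hxK (hu c)) (inv_mem hxK))
    exact (h ▸ mem_top g : g ∈ K.comap MulAut.conj)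
  have hfield : ∀ σ : F ≃ₐ[ZMod 2] F, σ ∈ zpowers Φ := by
    have hΦ1 : Φ ≠ 1 := fun h => hζ1 (Units.ext (by
      have e : Φ (ζ : F) = (ζ : F) := by rw [h]; rfl
      rw [hΦ, pow_two] at e
      exact (mul_eq_left₀ ζ.ne_zero).1 e))
    have hΦ3 : Φ ^ 3 = 1 := AlgEquiv.ext fun c => by
      rw [pow_succ, pow_two]
      show Φ (Φ (Φ c)) = c
      rw [hΦ, hΦ, hΦ, ← pow_mul, ← pow_mul]
      exact h8 c
    have ho : orderOf Φ = 3 := orderOf_eq_prime (hp := ⟨Nat.prime_three⟩) hΦ3 hΦ1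
    have hfin : FiniteDimensional (ZMod 2) F := Module.Finite.of_finite
    have hcard : Nat.card (F ≃ₐ[ZMod 2] F) = 3 := by
      rw [IsGalois.card_aut_eq_finrank]
      have h := Module.natCard_eq_pow_finrank (K := ZMod 2) (V := F)
      rw [Nat.card_eq_fintype_card, hF, Nat.card_zmod] at h
      exact (Nat.pow_right_injective le_rfl ((show (2 : ℕ) ^ 3 = 8 from rfl).trans h)).symm
    have htop : zpowers Φ = ⊤ := Subgroup.eq_top_of_card_eq _ (by rw [Nat.card_zpowers, ho, hcard])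
    exact fun σ => htop ▸ mem_top σ
  refine eq_top_iff.2 fun α _ => ?_
  obtain ⟨g, a, σ, rfl⟩ := exists_decomp 2 (f := 3) (by norm_num) (by rw [hF]; norm_num) α
  obtain ⟨n, rfl⟩ := hgen a
  obtain ⟨i, rfl⟩ := mem_zpowers_iff.1 (hfield σ)
  rw [map_pow, map_zpow]
  exact mul_mem (mul_mem (hinn g) (pow_mem hwK n)) (zpow_mem hyK i)

theorem card_aut_ge (hF : Fintype.card F = 8) : 504 ≤ Nat.card (MulAut P) := by
  classical
  have hc : Subgroup.center (Matrix.SpecialLinearGroup (Fin 2) F) = ⊥ := by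
    refine eq_bot_iff.2 fun z hz => mem_bot.2 ?_
    obtain ⟨c, hc, hcz⟩ := Matrix.SpecialLinearGroup.mem_center_iff.1 hz
    have hc' : c = 1 := by
      have h : (c - 1) * (c - 1) = 0 := by
        have h2 : (2 : F) = 0 := CharTwo.two_eq_zero
        rw [Fintype.card_fin] at hc
        linear_combination hc + (1 - c) * h2
      exact sub_eq_zero.1 (mul_self_eq_zero.1 h)
    refine sl_ext ?_
    rw [← hcz, hc', map_one, cone]
  have hP : Nat.card P = 504 := by
    have h := Subgroup.card_eq_card_quotient_mul_card_subgroup (Subgroup.center (Matrix.SpecialLinearGroup (Fin 2) F))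
    rw [card_S, hF, hc, Subgroup.card_bot, mul_one] at h
    rw [← hc] at h
    exact h.symm
  have hinj : Function.Injective (MulAut.conj : P →* MulAut P) := by
    refine (injective_iff_map_eq_one _).2 fun g hg => ?_
    obtain ⟨M, rfl⟩ := QuotientGroup.mk_surjective g
    have hfix : ∀ N, π (conjSL (Matrix.SpecialLinearGroup.toGL M) N) = π N := fun N => by
      have e : π (conjSL (Matrix.SpecialLinearGroup.toGL M) N) = MulAut.conj (π M) (π N) := by
        rw [MulAut.conj_apply, ← map_inv, ← map_mul, ← map_mul]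
        congr 1
      rw [e, show MulAut.conj (π M) = 1 from hg]
      rfl
    obtain ⟨h01, h10, h00⟩ := scalar_of_conjSL_fix (hfix _) (hfix _)
    refine (QuotientGroup.eq_one_iff M).2 (Matrix.SpecialLinearGroup.mem_center_iff.2 ⟨(M : Matrix (Fin 2) (Fin 2) F) 0 0, ?_, ?_⟩)
    · have hd := M.2
      rw [det_fin_two] at hd
      change (M : Matrix (Fin 2) (Fin 2) F) 0 1 = 0 at h01
      change (M : Matrix (Fin 2) (Fin 2) F) 0 0 = (M : Matrix (Fin 2) (Fin 2) F) 1 1 at h00
      rw [Fintype.card_fin, pow_two]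
      rw [h01, zero_mul, sub_zero, ← h00] at hd
      exact hd
    · change (M : Matrix (Fin 2) (Fin 2) F) 0 1 = 0 at h01
      change (M : Matrix (Fin 2) (Fin 2) F) 1 0 = 0 at h10
      change (M : Matrix (Fin 2) (Fin 2) F) 0 0 = (M : Matrix (Fin 2) (Fin 2) F) 1 1 at h00
      ext i j
      fin_cases i <;> fin_cases j <;> simp [h01, h10, h00]
  exact hP ▸ Nat.card_le_card_of_injective _ hinj

end Cfsg.Lib.TwoTimesAlt
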