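import Cfsg.Agent.TwoTimesAlt.Generators
import Cfsg.Agent.TwoTimesAlt.Aut8

/-!
The case `2 × A₄`: the group is `PΓL(2, 8)`.
-/

set_option autoImplicit false
set_option linter.unusedSectionVars false

namespace Cfsg.Lib.TwoTimesAlt

open Subgroup

universe u

variable {G : Type u} [Group G] [Finite G] {J : G} {T : Subgroup G}

theorem Hyp.center_trivial (H : Hyp G J T 4) (hG : Nat.card G = 1512) {z : G} (hz : z ∈ center G) : z = 1 := by
  have hcz := mem_center_iff.1 hz
  obtain ⟨p, hp, hzp⟩ := H.split (mem_centralizer_singleton_iff.2 (hcz J).symm)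
  obtain ⟨e⟩ := H.iso
  have hJz : ∀ q ∈ T, p * q = q * p := by
    intro q hq
    rcases hzp with h | h
    · rw [← h]; exact (hcz q).symm
    · have := (hcz q).symm
      rw [h, mul_assoc, ← mul_assoc q J p, ← H.comm hq, mul_assoc] at this
      exact mul_left_cancel this
  have hp1 : p = 1 := congrArg Subtype.val (e.injective (show e ⟨p, hp⟩ = e 1 by
    rw [map_one]
    exact alt_four_center _ fun b => by
      obtain ⟨q, rfl⟩ := e.surjective b
      rw [← map_mul, ← map_mul]
      exact congrArg e (Subtype.ext (hJz q q.2))))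
  rw [hp1, mul_one] at hzp
  rcases hzp with h | h
  · exact h
  · exfalso
    have h24 := (H.cent_four H.sq H.J_ne).1
    have htop : centralizer ({J} : Set G) = ⊤ :=
      eq_top_iff.2 fun g _ => mem_centralizer_singleton_iff.2 (by rw [← h]; exact hcz g)
    rw [htop, Subgroup.card_top, hG] at h24
    norm_num at h24

theorem Hyp.isoAut (H : Hyp G J T 4) (hns : ¬ Group.IsSolvable G) {F : Type} [Field F] [Fintype F] [CharP F 2]
    [Algebra (ZMod 2) F] (hF : Fintype.card F = 8) :
    Nonempty (G ≃* MulAut (Matrix.ProjectiveSpecialLinearGroup (Fin 2) F)) := by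
  classical
  haveI : Fact (Nat.Prime 2) := ⟨Nat.prime_two⟩
  obtain ⟨s, w, y, x, hR, hgen, hG⟩ := H.gens hns
  obtain ⟨s', w', y', x', hR', hgen'⟩ := exists_rels hF
  obtain ⟨f, hf⟩ := hR.exists_hom hR' hgen hgen' hG
  have hge := card_aut_ge hF
  have hq : Nat.card f.ker * Nat.card (MulAut (Matrix.ProjectiveSpecialLinearGroup (Fin 2) F)) = 1512 := by
    rw [← hG, ← card_mul_index f.ker, Subgroup.index_ker, MonoidHom.range_eq_top.2 hf, Subgroup.card_top]
  have hk : Nat.card f.ker ≤ 3 := by
    by_contra h
    have := Nat.mul_le_mul (show 4 ≤ Nat.card f.ker by omega) hge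
    omega
  -- a normal subgroup of order at most three is central
  have hcent : f.ker ≤ center G := by
    intro z hz
    rw [mem_center_iff]
    by_contra hcon
    push Not at hcon
    obtain ⟨g, hg⟩ := hcon
    have hz1 : z ≠ 1 := fun h => hg (by rw [h, mul_one, one_mul])
    have hne : ∀ a : G, a * z * a⁻¹ ≠ 1 := fun a => conj_ne_one a hz1
    have hmem : ∀ a : G, a * z * a⁻¹ ∈ f.ker := fun a => f.normal_ker.conj_mem z hz a
    have hgz : g * z * g⁻¹ ≠ z := fun h => hg (mul_inv_eq_iff_eq_mul.1 h)
    let g' : f.ker := ⟨g * z * g⁻¹, hmem g⟩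
    have hthree : ∀ a : G, a * z * a⁻¹ = z ∨ a * z * a⁻¹ = g * z * g⁻¹ := by
      intro a
      by_contra hc
      push Not at hc
      let F4 : Fin 4 → f.ker := ![1, ⟨z, hz⟩, g', ⟨a * z * a⁻¹, hmem a⟩]
      have hinj : Function.Injective F4 := by
        intro i j h
        have h' := congrArg Subtype.val h
        fin_cases i <;> fin_cases j <;> first
          | rfl
          | (simp [F4, g'] at h'; first
            | exact absurd h' hz1 | exact absurd h'.symm hz1 | exact absurd h' (hne g) | exact absurd h'.symm (hne g)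
            | exact absurd h' (hne a) | exact absurd h'.symm (hne a) | exact absurd h' hgz | exact absurd h'.symm hgz
            | exact absurd h' hc.1 | exact absurd h'.symm hc.1 | exact absurd h' hc.2 | exact absurd h'.symm hc.2)
      have := Nat.card_le_card_of_injective F4 hinj
      rw [Nat.card_eq_fintype_card, Fintype.card_fin] at this
      omega
    -- so its centraliser has index two
    have hidx : (centralizer ({z} : Set G)).index = 2 := by
      rw [Subgroup.index_eq_two_iff]
      refine ⟨g⁻¹, fun b => ?_⟩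
      have e : ∀ b : G, (b ∈ centralizer ({z} : Set G)) ↔ b * z * b⁻¹ = z := fun b => by
        rw [mem_centralizer_singleton_iff, mul_inv_eq_iff_eq_mul]
      simp only [e]
      have hb' : b * g⁻¹ * z * (b * g⁻¹)⁻¹ = b * (g⁻¹ * z * g) * b⁻¹ := by group
      have hg' : g⁻¹ * z * g = g * z * g⁻¹ := by
        rcases hthree g⁻¹ with h | h
        · exfalso
          rw [inv_inv] at h
          apply hgz
          calc g * z * g⁻¹ = g * (g⁻¹ * z * g) * g⁻¹ := by rw [h]
            _ = z := by group
        · rwa [inv_inv] at h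
      by_cases hb : b * z * b⁻¹ = z
      · refine Or.inr ⟨hb, fun h => hgz ?_⟩
        rw [hb', hg'] at h
        calc g * z * g⁻¹ = b⁻¹ * (b * (g * z * g⁻¹) * b⁻¹) * b := by group
          _ = b⁻¹ * (b * z * b⁻¹) * b := by rw [h, hb]
          _ = z := by group
      · refine Or.inl ⟨?_, hb⟩
        rw [hb', hg']
        rcases hthree (b * g) with h | h
        · calc b * (g * z * g⁻¹) * b⁻¹ = b * g * z * (b * g)⁻¹ := by group
            _ = z := h
        · exfalso
          apply hb
          rcases hthree b with h2 | h2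
          · exact h2
          · exfalso
            apply hgz
            calc g * z * g⁻¹ = b⁻¹ * (b * g * z * (b * g)⁻¹) * b := by group
              _ = b⁻¹ * (b * z * b⁻¹) * b := by rw [h, h2]
              _ = z := by group
    refine H.h2 _ ?_ hidx
    exact Subgroup.normal_of_index_eq_two hidx
  have hker : f.ker = ⊥ := eq_bot_iff.2 fun z hz => mem_bot.2 (H.center_trivial hG (hcent hz))
  exact ⟨MulEquiv.ofBijective f ⟨(MonoidHom.ker_eq_bot_iff f).1 hker, hf⟩⟩

end Cfsg.Lib.TwoTimesAlt
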