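import Mathlib

/-!
Relations for `PΓL(2, 8)` bounding the order by `1512`.
-/

set_option autoImplicit false

namespace Cfsg.Lib.TwoTimesAlt

open Subgroup

/-- The relations. -/
structure Rels {K : Type*} [Group K] (s w y x : K) : Prop where
  ss : s * s = 1
  xx : x * x = 1
  w7 : w ^ 7 = 1
  y3 : y ^ 3 = 1
  yw : y * w * y⁻¹ = w ^ 2
  xw : x * w * x = w⁻¹
  xy : x * y = y * x
  sy : s * y = y * s
  poly : s * (w * s * w⁻¹) = w ^ 3 * s * (w ^ 3)⁻¹
  braid : s * x * (s * x) * (s * x) = 1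

namespace Rels

variable {K : Type*} [Group K] {s w y x : K}

/-- The powers of `w`. -/
def wp (w : K) (i : ZMod 7) : K := w ^ i.val

/-- The conjugates of `s`. -/
def tt (s w : K) (i : ZMod 7) : K := wp w i * s * (wp w i)⁻¹

theorem wp_add (H : Rels s w y x) (i j : ZMod 7) : wp w (i + j) = wp w i * wp w j := by
  rw [wp, wp, wp, ← pow_add, ZMod.val_add, ← pow_eq_pow_mod _ H.w7]

theorem wp_zero : wp w 0 = 1 := by simp [wp]

theorem wp_one : wp w 1 = w := pow_one w

theorem wp_neg (H : Rels s w y x) (i : ZMod 7) : wp w (-i) = (wp w i)⁻¹ :=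
  eq_inv_of_mul_eq_one_left (by rw [← H.wp_add, neg_add_cancel, wp_zero])

theorem tt_zero : tt s w 0 = s := by simp [tt, wp_zero]

theorem y_wp (H : Rels s w y x) (i : ZMod 7) : y * wp w i = wp w (2 * i) * y := by
  have h : y * w ^ i.val * y⁻¹ = w ^ (2 * i.val) := by rw [← conj_pow, H.yw, pow_mul]
  rw [← mul_inv_eq_iff_eq_mul, wp, h, wp, ZMod.val_mul, ← pow_eq_pow_mod _ H.w7]
  rfl

theorem x_wp (H : Rels s w y x) (i : ZMod 7) : x * wp w i = wp w (-i) * x := by
  have hxi : x⁻¹ = x := inv_eq_of_mul_eq_one_left H.xx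
  have h : x * w ^ i.val * x⁻¹ = (w ^ i.val)⁻¹ := by
    rw [← conj_pow, hxi, H.xw, inv_pow]
  rw [← mul_inv_eq_iff_eq_mul, wp, h, H.wp_neg, wp]

theorem wp_tt (H : Rels s w y x) (j i : ZMod 7) : wp w j * tt s w i = tt s w (j + i) * wp w j := by
  rw [tt, tt, H.wp_add]; group

theorem y_tt (H : Rels s w y x) (i : ZMod 7) : y * tt s w i = tt s w (2 * i) * y := by
  rw [tt, tt]
  calc y * (wp w i * s * (wp w i)⁻¹) = (y * wp w i) * s * (wp w i)⁻¹ := by group
    _ = wp w (2 * i) * (y * s) * (wp w i)⁻¹ := by rw [H.y_wp]; group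
    _ = wp w (2 * i) * s * (y * (wp w i)⁻¹) := by rw [← H.sy]; group
    _ = wp w (2 * i) * s * (wp w (2 * i))⁻¹ * y := by
      rw [← H.wp_neg i, H.y_wp, show 2 * -i = -(2 * i) by ring, H.wp_neg]; group

theorem tt_sq (H : Rels s w y x) (i : ZMod 7) : tt s w i * tt s w i = 1 := by
  rw [tt]
  calc _ = wp w i * (s * s) * (wp w i)⁻¹ := by group
    _ = 1 := by rw [H.ss]; group

theorem rel_one (H : Rels s w y x) (i : ZMod 7) : tt s w i * tt s w (i + 1) = tt s w (i + 3) := by
  have h : s * tt s w 1 = tt s w 3 := by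
    rw [tt, tt, wp_one, H.poly, wp]
    rfl
  calc tt s w i * tt s w (i + 1) = wp w i * (s * tt s w 1) * (wp w i)⁻¹ := by
        have e := H.wp_tt i 1
        rw [← mul_inv_eq_iff_eq_mul] at e
        rw [← e, tt]; group
    _ = tt s w (i + 3) := by
        rw [h, H.wp_tt, mul_inv_cancel_right]

theorem rel_double (H : Rels s w y x) {a b : ZMod 7} (h : ∀ i, tt s w i * tt s w (i + a) = tt s w (i + b))
    (i : ZMod 7) : tt s w i * tt s w (i + 2 * a) = tt s w (i + 2 * b) := by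
  obtain ⟨j, rfl⟩ : ∃ j, i = 2 * j := ⟨4 * i, by rw [← mul_assoc, show (2 : ZMod 7) * 4 = 1 from by decide, one_mul]⟩
  have h' := congrArg (fun z => y * z * y⁻¹) (h j)
  rw [← mul_add, ← mul_add]
  have e : ∀ i, y * tt s w i * y⁻¹ = tt s w (2 * i) := fun i => by rw [H.y_tt, mul_inv_cancel_right]
  calc tt s w (2 * j) * tt s w (2 * (j + a)) = y * (tt s w j * tt s w (j + a)) * y⁻¹ := by
        rw [← e, ← e]; group
    _ = _ := by rw [h', e]

theorem rel_swap (H : Rels s w y x) {a b : ZMod 7} (h : ∀ i, tt s w i * tt s w (i + a) = tt s w (i + b))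
    (i : ZMod 7) : tt s w i * tt s w (i + b) = tt s w (i + a) := by
  rw [← h i, ← mul_assoc, H.tt_sq, one_mul]

/-- One and the conjugates of `s`. -/
def uu (s w : K) : Option (ZMod 7) → K
  | none => 1
  | some i => tt s w i

theorem uu_mul (H : Rels s w y x) (a b : Option (ZMod 7)) : ∃ c, uu s w a * uu s w b = uu s w c := by
  rcases a with _ | i
  · exact ⟨b, one_mul _⟩
  rcases b with _ | j
  · exact ⟨some i, mul_one _⟩
  have h1 := H.rel_one
  have h2 := H.rel_double h1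
  have h4 := H.rel_double h2
  have key : ∀ d : ZMod 7, d = 0 ∨ d = 1 ∨ d = 2 * 1 ∨ d = 2 * (2 * 1) ∨ d = 3 ∨ d = 2 * 3 ∨ d = 2 * (2 * 3) := by
    decide
  obtain ⟨d, rfl⟩ : ∃ d, j = i + d := ⟨j - i, by ring⟩
  rcases key d with rfl | rfl | rfl | rfl | rfl | rfl | rfl
  · exact ⟨none, by rw [add_zero]; exact H.tt_sq i⟩
  · exact ⟨some _, h1 i⟩
  · exact ⟨some _, h2 i⟩
  · exact ⟨some _, h4 i⟩
  · exact ⟨some _, H.rel_swap h1 i⟩
  · exact ⟨some _, H.rel_swap h2 i⟩
  · exact ⟨some _, H.rel_swap h4 i⟩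

theorem wp_uu (H : Rels s w y x) (j : ZMod 7) (a : Option (ZMod 7)) :
    wp w j * uu s w a = uu s w (a.map (j + ·)) * wp w j := by
  rcases a with _ | i
  · simp [uu]
  · exact H.wp_tt j i

theorem y_uu (H : Rels s w y x) (a : Option (ZMod 7)) : y * uu s w a = uu s w (a.map (2 * ·)) * y := by
  rcases a with _ | i
  · simp [uu]
  · exact H.y_tt i

/-- Membership in the subgroup `2³ : 7 : 3`. -/
def InB (s w y g : K) : Prop := ∃ a i, ∃ j : Fin 3, g = uu s w a * wp w i * y ^ (j : ℕ)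

theorem inB_one : InB s w y (1 : K) := ⟨none, 0, 0, by simp [uu, wp_zero]⟩

theorem uu_inB (H : Rels s w y x) (b : Option (ZMod 7)) {g : K} (hg : InB s w y g) : InB s w y (uu s w b * g) := by
  obtain ⟨a, i, j, rfl⟩ := hg
  obtain ⟨c, hc⟩ := H.uu_mul b a
  exact ⟨c, i, j, by rw [← mul_assoc, ← mul_assoc, hc]⟩

theorem wp_inB (H : Rels s w y x) (k : ZMod 7) {g : K} (hg : InB s w y g) : InB s w y (wp w k * g) := by
  obtain ⟨a, i, j, rfl⟩ := hg
  exact ⟨_, k + i, j, by rw [← mul_assoc, ← mul_assoc, H.wp_uu, mul_assoc (uu s w _), ← H.wp_add]⟩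

theorem y_inB (H : Rels s w y x) {g : K} (hg : InB s w y g) : InB s w y (y * g) := by
  obtain ⟨a, i, j, rfl⟩ := hg
  refine ⟨a.map (2 * ·), 2 * i, j + 1, ?_⟩
  rw [← mul_assoc, ← mul_assoc, H.y_uu, mul_assoc (uu s w _), H.y_wp, ← mul_assoc, mul_assoc _ y, ← pow_succ',
    Fin.val_add]
  rw [← pow_eq_pow_mod _ H.y3]
  rfl

/-- Membership in the whole group. -/
def InX (s w y x g : K) : Prop := InB s w y g ∨ ∃ b h, InB s w y h ∧ g = uu s w b * x * h

theorem s_inX (H : Rels s w y x) {g : K} (hg : InX s w y x g) : InX s w y x (s * g) := by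
  have hs : s = uu s w (some 0) := tt_zero.symm
  rcases hg with hg | ⟨b, h, hh, rfl⟩
  · have := H.uu_inB (some 0) hg
    rw [← hs] at this
    exact Or.inl this
  · obtain ⟨c, hc⟩ := H.uu_mul (some 0) b
    rw [← hs] at hc
    exact Or.inr ⟨c, h, hh, by rw [← mul_assoc, ← mul_assoc, hc]⟩

theorem w_inX (H : Rels s w y x) {g : K} (hg : InX s w y x g) : InX s w y x (w * g) := by
  rw [show w * g = wp w 1 * g by rw [wp_one]]
  rcases hg with hg | ⟨b, h, hh, rfl⟩
  · exact Or.inl (H.wp_inB 1 hg)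
  · refine Or.inr ⟨b.map (1 + ·), _, H.wp_inB (-1) hh, ?_⟩
    rw [← mul_assoc, ← mul_assoc, H.wp_uu, mul_assoc _ (wp w 1) x]
    have e := H.x_wp (-1)
    rw [neg_neg] at e
    rw [← e]
    group

theorem y_inX (H : Rels s w y x) {g : K} (hg : InX s w y x g) : InX s w y x (y * g) := by
  rcases hg with hg | ⟨b, h, hh, rfl⟩
  · exact Or.inl (H.y_inB hg)
  · refine Or.inr ⟨b.map (2 * ·), _, H.y_inB hh, ?_⟩
    rw [← mul_assoc, ← mul_assoc, H.y_uu, mul_assoc _ y x, ← H.xy]
    group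

theorem x_inX (H : Rels s w y x) {g : K} (hg : InX s w y x g) : InX s w y x (x * g) := by
  rcases hg with hg | ⟨b, h, hh, rfl⟩
  · exact Or.inr ⟨none, g, hg, by simp [uu]⟩
  rcases b with _ | i
  · refine Or.inl ?_
    rw [show x * (uu s w none * x * h) = (x * x) * h by simp [uu, mul_assoc], H.xx, one_mul]
    exact hh
  · refine Or.inr ⟨some (-i), _, H.uu_inB (some i) (H.wp_inB (2 * i) hh), ?_⟩
    have hxi : x⁻¹ = x := inv_eq_of_mul_eq_one_left H.xx
    have hsi : s⁻¹ = s := inv_eq_of_mul_eq_one_left H.ss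
    have hb : x * s * x = s * x * s := by
      have e : s * x * s = (x * s * x)⁻¹ := eq_inv_of_mul_eq_one_left (by
        have := H.braid
        calc s * x * s * (x * s * x) = s * x * (s * x) * (s * x) := by group
          _ = 1 := this)
      rw [e, mul_inv_rev, mul_inv_rev, hxi, hsi, mul_assoc]
    show x * (tt s w i * x * h) = tt s w (-i) * x * (tt s w i * (wp w (2 * i) * h))
    have h2 : (wp w i)⁻¹ * wp w (2 * i) = wp w i := by
      rw [two_mul, H.wp_add, inv_mul_cancel_left]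
    have e1 : x * wp w i = wp w (-i) * x := H.x_wp i
    have e2 : (wp w i)⁻¹ * x = x * wp w i := by
      rw [e1, H.wp_neg]
    calc x * (tt s w i * x * h) = (x * wp w i) * s * ((wp w i)⁻¹ * x) * h := by rw [tt]; group
      _ = wp w (-i) * (x * s * x) * wp w i * h := by rw [e2]; nth_rewrite 1 [e1]; group
      _ = wp w (-i) * s * (wp w (-i))⁻¹ * (wp w (-i) * x) * s * wp w i * h := by rw [hb]; group
      _ = tt s w (-i) * x * (wp w i * s * ((wp w i)⁻¹ * wp w (2 * i)) * h) := by rw [← e1, h2, tt]; group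
      _ = _ := by simp only [tt, mul_assoc]

theorem card_le [Finite K] (H : Rels s w y x) (hgen : closure {s, w, y, x} = (⊤ : Subgroup K)) :
    Nat.card K ≤ 1512 := by
  have hall : ∀ g : K, InX s w y x g := by
    intro g
    have hg : g ∈ Submonoid.closure ({s, w, y, x} : Set K) := by
      have h : ((closure ({s, w, y, x} : Set K)).toSubmonoid) = Submonoid.closure {s, w, y, x} :=
        Subgroup.closure_toSubmonoid_of_finite
      rw [← h]
      show g ∈ closure ({s, w, y, x} : Set K)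
      rw [hgen]; exact mem_top g
    induction hg using Submonoid.closure_induction_left with
    | one => exact Or.inl inB_one
    | mul_left a ha b _ hb =>
      rcases ha with rfl | rfl | rfl | rfl
      · exact H.s_inX hb
      · exact H.w_inX hb
      · exact H.y_inX hb
      · exact H.x_inX hb
  let F : Option (Option (ZMod 7)) × Option (ZMod 7) × ZMod 7 × Fin 3 → K := fun q =>
    (match q.1 with | none => 1 | some b => uu s w b * x) * (uu s w q.2.1 * wp w q.2.2.1 * y ^ (q.2.2.2 : ℕ))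
  have hF : Function.Surjective F := by
    intro g
    rcases hall g with ⟨a, i, j, rfl⟩ | ⟨b, h, ⟨a, i, j, rfl⟩, rfl⟩
    · exact ⟨(none, a, i, j), one_mul _⟩
    · exact ⟨(some b, a, i, j), rfl⟩
  calc Nat.card K ≤ Nat.card (Option (Option (ZMod 7)) × Option (ZMod 7) × ZMod 7 × Fin 3) :=
        Nat.card_le_card_of_surjective F hF
    _ = 1512 := by
      rw [Nat.card_eq_fintype_card]
      simp [Fintype.card_prod, Fintype.card_option]

/-- A finite group of order `1512` generated by such elements maps onto every other such group. -/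
theorem exists_hom {G A : Type*} [Group G] [Group A] [Finite G] [Finite A] {s w y x : G} {s' w' y' x' : A}
    (H : Rels s w y x) (H' : Rels s' w' y' x') (hgen : closure {s, w, y, x} = (⊤ : Subgroup G))
    (hgen' : closure {s', w', y', x'} = (⊤ : Subgroup A)) (hcard : Nat.card G = 1512) :
    ∃ f : G →* A, Function.Surjective f := by
  set L : Subgroup (G × A) := closure {(s, s'), (w, w'), (y, y'), (x, x')} with hL
  have hs : (s, s') ∈ L := subset_closure (by simp)
  have hw : (w, w') ∈ L := subset_closure (by simp)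
  have hy : (y, y') ∈ L := subset_closure (by simp)
  have hx : (x, x') ∈ L := subset_closure (by simp)
  have HL : Rels (⟨_, hs⟩ : L) ⟨_, hw⟩ ⟨_, hy⟩ ⟨_, hx⟩ := by
    constructor <;> refine Subtype.ext (Prod.ext ?_ ?_)
    exacts [H.ss, H'.ss, H.xx, H'.xx, H.w7, H'.w7, H.y3, H'.y3, H.yw, H'.yw, H.xw, H'.xw, H.xy, H'.xy, H.sy,
      H'.sy, H.poly, H'.poly, H.braid, H'.braid]
  have hLgen : closure {(⟨_, hs⟩ : L), ⟨_, hw⟩, ⟨_, hy⟩, ⟨_, hx⟩} = (⊤ : Subgroup L) := by
    have himg : L.subtype '' ({⟨_, hs⟩, ⟨_, hw⟩, ⟨_, hy⟩, ⟨_, hx⟩} : Set L) = {(s, s'), (w, w'), (y, y'), (x, x')} := by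
      simp [Set.image_insert_eq]
    refine map_injective L.subtype_injective ?_
    rw [MonoidHom.map_closure, himg, ← MonoidHom.range_eq_map, range_subtype]
  have hle := HL.card_le hLgen
  let p₁ : L →* G := (MonoidHom.fst G A).comp L.subtype
  let p₂ : L →* A := (MonoidHom.snd G A).comp L.subtype
  have hp₁ : Function.Surjective p₁ := by
    rw [← MonoidHom.range_eq_top, eq_top_iff, ← hgen, closure_le]
    rintro g (rfl | rfl | rfl | rfl)
    exacts [⟨⟨_, hs⟩, rfl⟩, ⟨⟨_, hw⟩, rfl⟩, ⟨⟨_, hy⟩, rfl⟩, ⟨⟨_, hx⟩, rfl⟩]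
  have hp₂ : Function.Surjective p₂ := by
    rw [← MonoidHom.range_eq_top, eq_top_iff, ← hgen', closure_le]
    rintro g (rfl | rfl | rfl | rfl)
    exacts [⟨⟨_, hs⟩, rfl⟩, ⟨⟨_, hw⟩, rfl⟩, ⟨⟨_, hy⟩, rfl⟩, ⟨⟨_, hx⟩, rfl⟩]
  have hb : Function.Bijective p₁ := hp₁.bijective_of_nat_card_le (by omega)
  let e : L ≃* G := MulEquiv.ofBijective p₁ hb
  exact ⟨p₂.comp e.symm.toMonoidHom, hp₂.comp e.symm.surjective⟩

end Rels

end Cfsg.Lib.TwoTimesAlt
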