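import Cfsg.Agent.TwoTimesAlt.Model
import Cfsg.Agent.TwoTimesAlt.Gens

/-!
The case `2 × A₄`: the normaliser of a Sylow 2-subgroup is strongly embedded and has index `9`.
-/

set_option autoImplicit false
set_option linter.unusedSectionVars false
set_option synthInstance.maxSize 2000

namespace Cfsg.Lib.TwoTimesAlt

open Subgroup

universe u

variable {G : Type u} [Group G] [Finite G] {J : G} {T : Subgroup G}

theorem model_four :
    (Finset.univ : Finset (Multiplicative (ZMod 2) × alternatingGroup (Fin 4))).card = 24 ∧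
    (Finset.univ.filter fun g : Multiplicative (ZMod 2) × alternatingGroup (Fin 4) => g * g = 1).card = 8 ∧
    (∀ g : Multiplicative (ZMod 2) × alternatingGroup (Fin 4), g ^ 8 = 1 → g * g = 1) ∧
    (∀ g : Multiplicative (ZMod 2) × alternatingGroup (Fin 4), (∀ p, p * p = 1 → g * p = p * g) → g * g = 1) := by
  decide +kernel

theorem alt_four_center : ∀ a : alternatingGroup (Fin 4), (∀ b, a * b = b * a) → a = 1 := by decide +kernel

theorem mul_self_conj (g x : G) (hx : x * x = 1) : g * x * g⁻¹ * (g * x * g⁻¹) = 1 := by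
  calc _ = g * (x * x) * g⁻¹ := by group
    _ = 1 := by rw [hx]; group

theorem conj_ne_one (g : G) {x : G} (hx : x ≠ 1) : g * x * g⁻¹ ≠ 1 := fun h => hx (by
  calc x = g⁻¹ * (g * x * g⁻¹) * g := by group
    _ = 1 := by rw [h]; group)

theorem Hyp.J_ne (H : Hyp G J T 4) : J ≠ 1 := fun h => by
  have h1 := H.central.1
  rw [h, orderOf_one] at h1
  norm_num at h1

/-- Facts on the centraliser of any involution. -/
theorem Hyp.cent_four (H : Hyp G J T 4) {x : G} (hx : x * x = 1) (hx1 : x ≠ 1) :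
    Nat.card (centralizer ({x} : Set G)) = 24 ∧
    Nat.card {g : G // g ∈ centralizer ({x} : Set G) ∧ g * g = 1} = 8 ∧
    (∀ g ∈ centralizer ({x} : Set G), g ^ 8 = 1 → g * g = 1) ∧
    (∀ g ∈ centralizer ({x} : Set G), (∀ p ∈ centralizer ({x} : Set G), p * p = 1 → g * p = p * g) → g * g = 1) := by
  classical
  obtain ⟨g₀, hg₀⟩ := isConj_iff.1 (H.one_class x hx hx1)
  obtain ⟨e₀⟩ := H.equiv
  have hmap : (centralizer ({J} : Set G)).map (MulAut.conj g₀).toMonoidHom = centralizer ({x} : Set G) := by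
    ext z
    rw [mem_map_equiv, mem_centralizer_singleton_iff, mem_centralizer_singleton_iff, MulAut.conj_symm_apply, ← hg₀]
    constructor
    · intro h
      calc z * (g₀ * J * g₀⁻¹) = g₀ * (g₀⁻¹ * z * g₀ * J) * g₀⁻¹ := by group
        _ = _ := by rw [h]; group
    · intro h
      calc g₀⁻¹ * z * g₀ * J = g₀⁻¹ * (z * (g₀ * J * g₀⁻¹)) * g₀ := by group
        _ = _ := by rw [h]; group
  let e : centralizer ({x} : Set G) ≃* Multiplicative (ZMod 2) × alternatingGroup (Fin 4) :=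
    ((MulEquiv.subgroupCongr hmap).symm.trans ((MulAut.conj g₀).subgroupMap _).symm).trans e₀
  obtain ⟨m1, m2, m3, m4⟩ := model_four
  have sq : ∀ g : centralizer ({x} : Set G), e g * e g = 1 ↔ (g : G) * g = 1 := fun g => by
    rw [← map_mul, map_eq_one_iff e e.injective, Subtype.ext_iff]; rfl
  refine ⟨?_, ?_, fun g hg h => ?_, fun g hg h => ?_⟩
  · rw [Nat.card_congr e.toEquiv, Nat.card_eq_fintype_card, ← Finset.card_univ, m1]
  · rw [← m2, ← Fintype.card_subtype, ← Nat.card_eq_fintype_card]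
    exact Nat.card_congr
      { toFun := fun g => ⟨e ⟨g.1, g.2.1⟩, (sq _).2 g.2.2⟩
        invFun := fun q => ⟨(e.symm q.1 : centralizer ({x} : Set G)), (e.symm q.1).2, (sq _).1 (by simp [q.2])⟩
        left_inv := fun g => Subtype.ext (by simp)
        right_inv := fun q => Subtype.ext (by simp) }
  · refine (sq ⟨g, hg⟩).1 (m3 _ ?_)
    rw [← map_pow, map_eq_one_iff e e.injective]
    exact Subtype.ext h
  · refine (sq ⟨g, hg⟩).1 (m4 _ fun p hp => ?_)
    obtain ⟨p, rfl⟩ := e.surjective p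
    rw [← map_mul, ← map_mul]
    exact congrArg e (Subtype.ext (h p p.2 ((sq p).1 hp)))

/-- The configuration at a Sylow subgroup. -/
structure Setup (J : G) (S : Subgroup G) : Prop where
  sq : ∀ p ∈ S, p * p = 1
  memJ : J ∈ S
  card : Nat.card S = 8
  maximal : ∀ Q : Subgroup G, IsPGroup 2 Q → S ≤ Q → Q = S
  cent : ∀ x ∈ S, x ≠ 1 → ∀ g ∈ centralizer ({x} : Set G), g * g = 1 → g ∈ S

theorem Hyp.setup (H : Hyp G J T 4) : ∃ P : Sylow 2 G, Setup J (P : Subgroup G) := by
  classical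
  obtain ⟨-, P, hJP, hPc⟩ := H.central
  have hPC : ∀ x ∈ (P : Subgroup G), x ∈ centralizer ({J} : Set G) := fun x hx =>
    mem_centralizer_singleton_iff.2 (hPc x hx)
  have hU := sylow_inter H P hJP hPC
  have h8 : Nat.card (P : Subgroup G) = 8 := by
    rw [← card_inter_two H P hJP hPC, show Nat.card ((P : Subgroup G).subgroupOf T) = 4 from
      (Nat.card_congr ⟨fun y => ⟨((y : T) : G), y.2, (y : T).2⟩, fun u => ⟨⟨u.1, u.2.2⟩, u.2.1⟩, fun _ => rfl,
        fun _ => rfl⟩).trans hU]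
  have hsq : ∀ p ∈ (P : Subgroup G), p * p = 1 := fun p hp =>
    (H.cent_four H.sq H.J_ne).2.2.1 p (hPC p hp) (by
      have := pow_card_eq_one' (x := (⟨p, hp⟩ : (P : Subgroup G)))
      rw [h8] at this
      exact congrArg Subtype.val this)
  refine ⟨P, hsq, hJP, h8, fun Q hQ hle => P.3 hQ hle, fun x hx hx1 g hg hgg => ?_⟩
  have hsub : ∀ p : (P : Subgroup G), (p : G) ∈ centralizer ({x} : Set G) := fun p => by
    rw [mem_centralizer_singleton_iff]
    have h := hsq _ (mul_mem p.2 hx)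
    rw [← inv_eq_of_mul_eq_one_left h, mul_inv_rev, inv_eq_of_mul_eq_one_left (hsq _ p.2),
      inv_eq_of_mul_eq_one_left (hsq _ hx)]
  let f : ↥(P : Subgroup G) → {g : G // g ∈ centralizer ({x} : Set G) ∧ g * g = 1} := fun p => ⟨(p : G), hsub p, hsq _ p.2⟩
  have hf : Function.Bijective f :=
    Function.Injective.bijective_of_nat_card_le (fun a b h => Subtype.ext (congrArg Subtype.val h :))
      (by rw [h8, (H.cent_four (hsq x hx) hx1).2.1])
  obtain ⟨p, hp⟩ := hf.2 ⟨g, hg, hgg⟩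
  have : (p : G) = g := congrArg Subtype.val hp
  exact this ▸ p.2

section

variable {S : Subgroup G}

local notation "M" => Subgroup.normalizer (S : Set G)

theorem Setup.comm (hS : Setup J S) {a b : G} (ha : a ∈ S) (hb : b ∈ S) : a * b = b * a := by
  have h := hS.sq _ (mul_mem ha hb)
  rw [← inv_eq_of_mul_eq_one_left h, mul_inv_rev, inv_eq_of_mul_eq_one_left (hS.sq _ ha),
    inv_eq_of_mul_eq_one_left (hS.sq _ hb)]

/-- An element moving an involution of `S` into `S` normalises `S`. -/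
theorem Setup.mem_normalizer (hS : Setup J S) {g x : G} (hx : x ∈ S) (hx1 : x ≠ 1) (hgx : g * x * g⁻¹ ∈ S) :
    g ∈ M := by
  refine mem_normalizer_iff.2 fun p => ?_
  have h1 : ∀ p ∈ S, g * p * g⁻¹ ∈ S := fun p hp => by
    refine hS.cent _ hgx (conj_ne_one g hx1) _ ?_ (mul_self_conj g p (hS.sq p hp))
    rw [mem_centralizer_singleton_iff]
    calc g * p * g⁻¹ * (g * x * g⁻¹) = g * (p * x) * g⁻¹ := by group
      _ = _ := by rw [hS.comm hp hx]; group
  refine ⟨h1 p, fun hp => ?_⟩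
  let f : S → S := fun q => ⟨g * (q : G) * g⁻¹, h1 q q.2⟩
  have hf : Function.Injective f := fun a b h => Subtype.ext ((MulAut.conj g).injective (congrArg Subtype.val h :))
  obtain ⟨q, hq⟩ := (Finite.injective_iff_surjective.1 hf) ⟨g * p * g⁻¹, hp⟩
  have : (q : G) = p := (MulAut.conj g).injective (congrArg Subtype.val hq :)
  exact this ▸ q.2

theorem normalizer_conj {g p : G} (hg : g ∈ M) (hp : p ∈ S) : g * p * g⁻¹ ∈ S :=
  (mem_normalizer_iff.1 hg p).1 hp

/-- The involutions of the normaliser lie in `S`. -/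
theorem Setup.invol_mem (hS : Setup J S) {x : G} (hx : x ∈ M) (hxx : x * x = 1) : x ∈ S := by
  by_cases hx1 : x = 1
  · exact hx1 ▸ one_mem S
  have : Fact (Nat.Prime 2) := ⟨Nat.prime_two⟩
  have hp : IsPGroup 2 (zpowers x) := IsPGroup.of_card (n := 1) (by
    rw [Nat.card_zpowers, orderOf_eq_prime (by rw [pow_two, hxx]) hx1, pow_one])
  have hQ := hS.maximal (S ⊔ zpowers x) (IsPGroup.to_sup_of_normal_left'
    (IsPGroup.of_card (n := 3) (by rw [hS.card]; norm_num)) hp (zpowers_le.2 hx)) le_sup_left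
  exact hQ ▸ mem_sup_right (mem_zpowers x)

theorem Setup.embedded (hS : Setup J S) {g : G} (hg : g ∉ M) {d : G} (hd : d ∈ M) (hd' : g⁻¹ * d * g ∈ M)
    (hdd : d * d = 1) : d = 1 := by
  by_contra h1
  apply hg
  refine hS.mem_normalizer (hS.invol_mem hd' ?_) ?_ (x := g⁻¹ * d * g) ?_
  · simpa using mul_self_conj g⁻¹ d hdd
  · have := conj_ne_one g⁻¹ h1; rwa [inv_inv] at this
  · rw [show g * (g⁻¹ * d * g) * g⁻¹ = d by group]
    exact hS.invol_mem hd hdd

theorem Setup.card_normalizer (hS : Setup J S) (H : Hyp G J T 4) : Nat.card M = 168 := by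
  classical
  have hg : ∀ x : {x : G // x ∈ S ∧ x ≠ 1}, ∃ g : G, g * J * g⁻¹ = x.1 := fun x =>
    isConj_iff.1 (H.one_class x.1 (hS.sq _ x.2.1) x.2.2)
  choose g hg using hg
  have hgM : ∀ x, g x ∈ M := fun x => hS.mem_normalizer hS.memJ H.J_ne (hg x ▸ x.2.1)
  have hcM : ∀ c ∈ centralizer ({J} : Set G), c ∈ M := fun c hc =>
    hS.mem_normalizer hS.memJ H.J_ne (by
      rw [mem_centralizer_singleton_iff.1 hc, mul_inv_cancel_right]; exact hS.memJ)
  let f : {x : G // x ∈ S ∧ x ≠ 1} × centralizer ({J} : Set G) → M := fun q =>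
    ⟨g q.1 * q.2, mul_mem (hgM _) (hcM _ q.2.2)⟩
  have hf : Function.Bijective f := by
    constructor
    · intro a b h
      have h' : g a.1 * (a.2 : G) = g b.1 * b.2 := congrArg Subtype.val h
      have key : ∀ q : {x : G // x ∈ S ∧ x ≠ 1} × centralizer ({J} : Set G),
          g q.1 * (q.2 : G) * J * (g q.1 * (q.2 : G))⁻¹ = q.1.1 := fun q => by
        rw [mul_assoc (g q.1) (q.2 : G) J, mem_centralizer_singleton_iff.1 q.2.2, ← hg q.1]; group
      have h1 : a.1 = b.1 := Subtype.ext (by rw [← key a, ← key b, h'])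
      rw [h1] at h'
      exact Prod.ext h1 (Subtype.ext (mul_left_cancel h'))
    · rintro ⟨m, hm⟩
      let x : {x : G // x ∈ S ∧ x ≠ 1} := ⟨m * J * m⁻¹, normalizer_conj hm hS.memJ, conj_ne_one m H.J_ne⟩
      refine ⟨(x, ⟨(g x)⁻¹ * m, ?_⟩), Subtype.ext (mul_inv_cancel_left _ _)⟩
      rw [mem_centralizer_singleton_iff]
      calc (g x)⁻¹ * m * J = (g x)⁻¹ * (m * J * m⁻¹) * m := by group
        _ = J * ((g x)⁻¹ * m) := by rw [show m * J * m⁻¹ = g x * J * (g x)⁻¹ from (hg x).symm]; group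
  have h7 : Nat.card {x : G // x ∈ S ∧ x ≠ 1} = 7 := by
    let e : {x : G // x ∈ S ∧ x ≠ 1} ≃ {x : S // x ≠ 1} :=
      ⟨fun x => ⟨⟨x.1, x.2.1⟩, fun h => x.2.2 (congrArg Subtype.val h)⟩,
        fun x => ⟨x.1.1, x.1.2, fun h => x.2 (Subtype.ext h)⟩, fun _ => rfl, fun _ => rfl⟩
    have : Fintype S := Fintype.ofFinite S
    rw [Nat.card_congr e, Nat.card_eq_fintype_card, Fintype.card_subtype_compl, Fintype.card_subtype_eq,
      ← Nat.card_eq_fintype_card, hS.card]
  rw [← Nat.card_eq_of_bijective f hf, Nat.card_prod, h7, (H.cent_four H.sq H.J_ne).1]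

theorem Setup.card_involutions (hS : Setup J S) :
    Nat.card {x : G // x ∈ M ∧ x * x = 1 ∧ x ≠ 1} = 7 := by
  classical
  have : Fintype S := Fintype.ofFinite S
  let e : {x : G // x ∈ M ∧ x * x = 1 ∧ x ≠ 1} ≃ {x : S // x ≠ 1} :=
    ⟨fun x => ⟨⟨x.1, hS.invol_mem x.2.1 x.2.2.1⟩, fun h => x.2.2.2 (congrArg Subtype.val h)⟩,
      fun x => ⟨x.1.1, le_normalizer x.1.2, hS.sq _ x.1.2, fun h => x.2 (Subtype.ext h)⟩, fun _ => rfl, fun _ => rfl⟩
  rw [Nat.card_congr e, Nat.card_eq_fintype_card, Fintype.card_subtype_compl, Fintype.card_subtype_eq,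
    ← Nat.card_eq_fintype_card, hS.card]

end

end Cfsg.Lib.TwoTimesAlt
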