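import Cfsg.Agent.TwoTimesAlt.Perms
import Cfsg.Agent.S0111
import Cfsg.Agent.JankoOne.Local
import Cfsg.Prelude.Def_TwoFusion

/-!
A 2-central involution with centraliser `2 × A_m` in a group without subgroups of index two: `m` is `4` or `5` and all
involutions are conjugate.
-/

set_option autoImplicit false
set_option linter.unusedSectionVars false
set_option maxRecDepth 4000

namespace Cfsg.Lib.TwoTimesAlt

open Subgroup
open scoped commutatorElement

universe u

variable {G : Type u} [Group G] [Finite G]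

/-- The hypotheses. -/
structure Hyp (G : Type u) [Group G] (J : G) (T : Subgroup G) (m : ℕ) : Prop where
  h2 : ∀ N : Subgroup G, N.Normal → N.index ≠ 2
  central : Cfsg.IsTwoCentralInvolution J
  iso : Nonempty (↥T ≃* ↥(alternatingGroup (Fin m)))
  prod : Cfsg.IsInternalDirectProduct (zpowers J) T (centralizer ({J} : Set G))

variable {J : G} {T : Subgroup G} {m : ℕ}

theorem Hyp.sq (H : Hyp G J T m) : J * J = 1 := by
  rw [← pow_two, ← H.central.1, pow_orderOf_eq_one]

theorem Hyp.J_notMem (H : Hyp G J T m) : J ∉ T := fun h => by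
  have : J ∈ zpowers J ⊓ T := ⟨mem_zpowers J, h⟩
  rw [H.prod.2.2.2.1, mem_bot] at this
  have h1 := H.central.1
  rw [this, orderOf_one] at h1
  norm_num at h1

theorem Hyp.comm (H : Hyp G J T m) {p : G} (hp : p ∈ T) : J * p = p * J :=
  H.prod.2.2.1 J (mem_zpowers J) p hp

theorem Hyp.split (H : Hyp G J T m) {x : G} (hx : x ∈ centralizer ({J} : Set G)) :
    ∃ p ∈ T, x = p ∨ x = J * p := by
  rw [← H.prod.2.2.2.2, sup_eq_closure] at hx
  induction hx using closure_induction with
  | mem y hy =>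
    rcases hy with hy | hy
    · obtain ⟨i, rfl⟩ := mem_zpowers_iff.1 hy
      obtain ⟨k, rfl | rfl⟩ := i.even_or_odd'
      · refine ⟨1, one_mem T, Or.inl ?_⟩
        rw [zpow_mul, zpow_two, H.sq, one_zpow]
      · refine ⟨1, one_mem T, Or.inr ?_⟩
        rw [zpow_add, zpow_mul, zpow_two, H.sq, one_zpow, one_mul, zpow_one, mul_one]
    · exact ⟨y, hy, Or.inl rfl⟩
  | one => exact ⟨1, one_mem T, Or.inl rfl⟩
  | mul a b _ _ ha hb =>
    obtain ⟨p, hp, ha⟩ := ha
    obtain ⟨q, hq, hb⟩ := hb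
    refine ⟨p * q, mul_mem hp hq, ?_⟩
    rcases ha with rfl | rfl <;> rcases hb with rfl | rfl
    · exact Or.inl rfl
    · exact Or.inr (by rw [← mul_assoc, ← mul_assoc, H.comm hp])
    · exact Or.inr (mul_assoc _ _ _)
    · refine Or.inl ?_
      calc J * p * (J * q) = J * (p * J) * q := by group
        _ = p * q := by rw [← H.comm hp, ← mul_assoc J J p, H.sq, one_mul]
  | inv a _ ha =>
    obtain ⟨p, hp, ha | ha⟩ := ha
    · exact ⟨p⁻¹, inv_mem hp, Or.inl (by rw [ha])⟩
    · refine ⟨p⁻¹, inv_mem hp, Or.inr ?_⟩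
      rw [ha]
      rw [mul_inv_rev, H.comm (inv_mem hp), inv_eq_of_mul_eq_one_left H.sq]

theorem Hyp.commutator_le (H : Hyp G J T m) : ⁅centralizer ({J} : Set G), centralizer ({J} : Set G)⁆ ≤ T := by
  rw [Subgroup.commutator_le]
  intro a ha b hb
  obtain ⟨p, hp, hpa⟩ := H.split ha
  obtain ⟨q, hq, hqb⟩ := H.split hb
  have hcm : ∀ x ∈ T, Commute J x := fun x hx => H.comm hx
  have key : ∀ (j k : G), Commute j k → Commute j p → Commute j q → Commute k p → Commute k q →
      ⁅j * p, k * q⁆ = ⁅p, q⁆ := by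
    intro j k hjk hjp hjq hkp hkq
    have e1 : Commute j (p * k * q * p⁻¹) := ((hjp.mul_right hjk).mul_right hjq).mul_right hjp.inv_right
    have e2 : Commute k (p * (q * p⁻¹)) := hkp.mul_right (hkq.mul_right hkp.inv_right)
    rw [commutatorElement_def, commutatorElement_def, mul_inv_rev, mul_inv_rev]
    calc j * p * (k * q) * (p⁻¹ * j⁻¹) * (q⁻¹ * k⁻¹) = j * (p * k * q * p⁻¹) * j⁻¹ * (q⁻¹ * k⁻¹) := by group
      _ = (p * k) * q * p⁻¹ * (q⁻¹ * k⁻¹) := by rw [e1.eq, mul_inv_cancel_right]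
      _ = k * (p * (q * p⁻¹) * q⁻¹) * k⁻¹ := by rw [← hkp.eq]; group
      _ = p * q * p⁻¹ * q⁻¹ := by
        rw [(hkp.mul_right (hkq.mul_right hkp.inv_right) |>.mul_right hkq.inv_right).eq]; group
  have hT : ⁅p, q⁆ ∈ T := by
    rw [commutatorElement_def]
    exact mul_mem (mul_mem (mul_mem hp hq) (inv_mem hp)) (inv_mem hq)
  have one : ∀ x : G, Commute (1 : G) x := Commute.one_left
  rcases hpa with rfl | rfl <;> rcases hqb with rfl | rfl
  · exact hT
  · have := key 1 J (one J) (one _) (one _) (hcm _ hp) (hcm _ hq)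
    rw [one_mul] at this
    rw [this]; exact hT
  · have := key J 1 (Commute.one_right J) (hcm _ hp) (hcm _ hq) (one _) (one _)
    rw [one_mul] at this
    rw [this]; exact hT
  · rw [key J J (Commute.refl J) (hcm _ hp) (hcm _ hq) (hcm _ hp) (hcm _ hq)]; exact hT

/-- The fusion of `J` into `T`. -/
theorem Hyp.conj_mem (H : Hyp G J T m) (P : Sylow 2 G) (hJP : J ∈ (P : Subgroup G))
    (hPc : ∀ x ∈ (P : Subgroup G), x * J = J * x) : ∃ g : G, g * J * g⁻¹ ∈ T := by
  have hPC : ∀ x ∈ (P : Subgroup G), x ∈ centralizer ({J} : Set G) := fun x hx =>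
    mem_centralizer_singleton_iff.2 (hPc x hx)
  have hQi : ((P : Subgroup G) ⊓ T).relIndex (P : Subgroup G) = 2 := by
    rw [Subgroup.relIndex, Subgroup.index_eq_two_iff]
    refine ⟨⟨J, hJP⟩, fun b => ?_⟩
    simp only [mem_subgroupOf, Subgroup.coe_mul, Subgroup.mem_inf]
    obtain ⟨p, hp, hb⟩ := H.split (hPC b b.2)
    rcases hb with hb | hb
    · refine Or.inr ⟨⟨b.2, hb ▸ hp⟩, fun h => H.J_notMem ?_⟩
      have := mul_mem (inv_mem (hb ▸ hp : (b : G) ∈ T)) h.2
      rwa [inv_mul_cancel_left] at this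
    · have hmem : (b : G) * J ∈ T := by
        rw [hb, mul_assoc, ← H.comm hp, ← mul_assoc, H.sq, one_mul]
        exact hp
      refine Or.inl ⟨⟨mul_mem b.2 hJP, hmem⟩, fun h => H.J_notMem ?_⟩
      have := mul_mem (inv_mem h.2) hmem
      rwa [inv_mul_cancel_left] at this
  rcases Cfsg.Agent.S0111.result P ((P : Subgroup G) ⊓ T) inf_le_left hQi J H.central.1 hJP
      (fun h => H.J_notMem h.2) with ⟨N, hN, hi, -⟩ | ⟨g, hg⟩
  · exact absurd hi (H.h2 N hN)
  · exact ⟨g, hg.2⟩

theorem alt_invol_conj : ∀ a b : alternatingGroup (Fin 4), a * a = 1 → a ≠ 1 → b * b = 1 → b ≠ 1 →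
    ∃ g : alternatingGroup (Fin 4), g * a * g⁻¹ = b := by decide +kernel

theorem alt_invol_conj' : ∀ a b : alternatingGroup (Fin 5), a * a = 1 → a ≠ 1 → b * b = 1 → b ≠ 1 →
    ∃ g : alternatingGroup (Fin 5), g * a * g⁻¹ = b := by decide +kernel

theorem exponents_four : (∀ a : alternatingGroup (Fin 4), a ^ 12 = 1 ∧ (a ^ 4 = 1 → a * a = 1)) := by decide +kernel

theorem exponents_five : (∀ a : alternatingGroup (Fin 5), a ^ 30 = 1 ∧ (a ^ 4 = 1 → a * a = 1)) := by decide +kernel

theorem Hyp.degree (H : Hyp G J T m) : m = 4 ∨ m = 5 := by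
  classical
  obtain ⟨hord, P, hJP, hPc⟩ := H.central
  obtain ⟨g, hg⟩ := H.conj_mem P hJP hPc
  obtain ⟨e⟩ := H.iso
  have hgo : orderOf (g * J * g⁻¹) = 2 := by
    rw [show g * J * g⁻¹ = (MulAut.conj g).toMonoidHom J from rfl,
      orderOf_injective (MulAut.conj g).toMonoidHom (MulAut.conj g).injective, hord]
  set a := e ⟨_, hg⟩ with ha
  have hao : orderOf a = 2 := by rw [ha, MulEquiv.orderOf_eq, orderOf_mk, hgo]
  have h2 : 2 ∣ Nat.card (alternatingGroup (Fin m)) := hao ▸ orderOf_dvd_natCard a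
  by_contra hcon
  rcases (show m ≤ 1 ∨ m = 2 ∨ m = 3 ∨ 6 ≤ m by omega) with hm | hm | hm | hm
  · have : Subsingleton (Fin m) := ⟨fun x y => Fin.ext (by omega)⟩
    rw [Subsingleton.elim a 1, orderOf_one] at hao
    omega
  · subst hm
    have : Nat.card (alternatingGroup (Fin 2)) = 1 := by rw [Nat.card_eq_fintype_card]; decide +kernel
    omega
  · subst hm
    have : Nat.card (alternatingGroup (Fin 3)) = 3 := by rw [Nat.card_eq_fintype_card]; decide +kernel
    omega
  · -- `J` would be a product of commutators in its centraliser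
    have hx : (a : Equiv.Perm (Fin m)) * a = 1 := by
      rw [← Subgroup.coe_mul, ← pow_two, ← hao, pow_orderOf_eq_one]; rfl
    have hmem := mem_closure_centComm (α := Fin m) (by rw [Fintype.card_fin]; exact hm) (a : Equiv.Perm (Fin m)) hx
      (a : Equiv.Perm (Fin m)) (Equiv.Perm.mem_alternatingGroup.1 a.2) (fun _ _ => rfl) hx
    -- transfer to `G`
    let ι : alternatingGroup (Fin m) →* G := T.subtype.comp e.symm.toMonoidHom
    have hιa : ι a = g * J * g⁻¹ := by simp [ι, ha]
    set C := centralizer ({g * J * g⁻¹} : Set G) with hC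
    have hsub : closure (centComm (a : Equiv.Perm (Fin m))) ≤
        ((⁅C, C⁆).comap ι).map (alternatingGroup (Fin m)).subtype := by
      rw [closure_le]
      rintro z ⟨p, q, hp, hq, hpx, hqx, rfl⟩
      let p' : alternatingGroup (Fin m) := ⟨p, Equiv.Perm.mem_alternatingGroup.2 hp⟩
      let q' : alternatingGroup (Fin m) := ⟨q, Equiv.Perm.mem_alternatingGroup.2 hq⟩
      refine ⟨⁅p', q'⁆, ?_, by simp [commutatorElement_def, p', q']⟩
      show ι ⁅p', q'⁆ ∈ ⁅C, C⁆
      rw [map_commutatorElement]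
      refine commutator_mem_commutator ?_ ?_ <;> rw [hC, mem_centralizer_singleton_iff, ← hιa, ← map_mul, ← map_mul]
      · exact congrArg ι (Subtype.ext hpx)
      · exact congrArg ι (Subtype.ext hqx)
    obtain ⟨a', ha', haa⟩ := hsub hmem
    obtain rfl : a' = a := Subtype.ext haa
    have hJ : g * J * g⁻¹ ∈ ⁅C, C⁆ := hιa ▸ ha'
    have hle : C ≤ (centralizer ({J} : Set G)).map (MulAut.conj g).toMonoidHom := by
      intro y hy
      refine ⟨g⁻¹ * y * g, ?_, by simp [mul_assoc]⟩
      rw [SetLike.mem_coe, mem_centralizer_singleton_iff]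
      rw [hC, mem_centralizer_singleton_iff] at hy
      calc g⁻¹ * y * g * J = g⁻¹ * (y * (g * J * g⁻¹)) * g := by group
        _ = J * (g⁻¹ * y * g) := by rw [hy]; group
    have h' := commutator_mono hle hle hJ
    rw [← map_commutator] at h'
    obtain ⟨y, hy, hye⟩ := h'
    have hyJ : y = J := (MulAut.conj g).injective (hye.trans (MulAut.conj_apply g J).symm)
    exact H.J_notMem (H.commutator_le (hyJ ▸ hy))

theorem card_sup_of_commute (H : Hyp G J T m) {V : Subgroup G} (hdisj : Disjoint (zpowers J) V) (hV : V ≤ T) :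
    Nat.card (zpowers J ⊔ V : Subgroup G) = Nat.card (zpowers J) * Nat.card V := by
  have hcomm : ∀ (a : zpowers J) (b : V), Commute ((zpowers J).subtype a) (V.subtype b) := fun a b =>
    H.prod.2.2.1 a a.2 b (hV b.2)
  let ψ := MonoidHom.noncommCoprod (zpowers J).subtype V.subtype hcomm
  have hinj : Function.Injective ψ := by
    refine (injective_iff_map_eq_one ψ).2 fun ⟨a, b⟩ h => ?_
    have h' : (a : G) * (b : G) = 1 := h
    have ha : (a : G) = 1 := disjoint_def.1 hdisj a.2 (by rw [eq_inv_of_mul_eq_one_left h']; exact inv_mem b.2)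
    rw [ha, one_mul] at h'
    exact Prod.ext (Subtype.ext ha) (Subtype.ext h')
  have hrange : ψ.range = zpowers J ⊔ V := by
    rw [MonoidHom.noncommCoprod_range, range_subtype, range_subtype]
  rw [← hrange, ← Nat.card_congr (MonoidHom.ofInjective hinj).toEquiv, Nat.card_prod]

theorem card_inter_two (H : Hyp G J T m) (P : Sylow 2 G) (hJP : J ∈ (P : Subgroup G))
    (hPC : ∀ x ∈ (P : Subgroup G), x ∈ centralizer ({J} : Set G)) :
    Nat.card ((P : Subgroup G).subgroupOf T) * 2 = Nat.card (P : Subgroup G) := by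
  classical
  let f : ((P : Subgroup G).subgroupOf T) × Fin 2 → (P : Subgroup G) := fun q =>
    ⟨J ^ (q.2 : ℕ) * ((q.1 : T) : G), mul_mem (pow_mem hJP _) q.1.2⟩
  have hf : Function.Bijective f := by
    constructor
    · rintro ⟨u, i⟩ ⟨v, j⟩ h
      have h' : J ^ (i : ℕ) * ((u : T) : G) = J ^ (j : ℕ) * ((v : T) : G) := congrArg Subtype.val h
      have hij : i = j := by
        by_contra hne
        apply H.J_notMem
        have hu := (u : T).2; have hv := (v : T).2
        fin_cases i <;> fin_cases j <;> simp at hne h'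
        · have := mul_mem hu (inv_mem hv)
          rwa [h', mul_inv_cancel_right] at this
        · have := mul_mem hv (inv_mem hu)
          rwa [← h', mul_inv_cancel_right] at this
      subst hij
      have := mul_left_cancel h'
      exact Prod.ext (Subtype.ext (Subtype.ext this)) rfl
    · rintro ⟨x, hx⟩
      obtain ⟨p, hp, hxp⟩ := H.split (hPC x hx)
      rcases hxp with rfl | rfl
      · exact ⟨(⟨⟨_, hp⟩, hx⟩, 0), Subtype.ext (by simp [f])⟩
      · have hpP : p ∈ (P : Subgroup G) := by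
          have := mul_mem (inv_mem hJP) hx
          rwa [inv_mul_cancel_left] at this
        exact ⟨(⟨⟨p, hp⟩, hpP⟩, 1), Subtype.ext (by simp [f])⟩
  rw [← Nat.card_eq_of_bijective f hf, Nat.card_prod, Nat.card_eq_fintype_card (α := Fin 2), Fintype.card_fin]

theorem alt_card : Nat.card (alternatingGroup (Fin 4)) = 12 ∧ Nat.card (alternatingGroup (Fin 5)) = 60 := by
  rw [Nat.card_eq_fintype_card, Nat.card_eq_fintype_card]; decide +kernel

theorem sylow_inter (H : Hyp G J T m) (P : Sylow 2 G) (hJP : J ∈ (P : Subgroup G))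
    (hPC : ∀ x ∈ (P : Subgroup G), x ∈ centralizer ({J} : Set G)) :
    Nat.card {y : G // y ∈ (P : Subgroup G) ∧ y ∈ T} = 4 := by
  have hp : Fact (Nat.Prime 2) := ⟨Nat.prime_two⟩
  obtain ⟨e⟩ := H.iso
  let U : Subgroup T := (P : Subgroup G).subgroupOf T
  have hTcard : Nat.card T = 12 ∨ Nat.card T = 60 := by
    rw [Nat.card_congr e.toEquiv]
    rcases H.degree with rfl | rfl
    · exact Or.inl alt_card.1
    · exact Or.inr alt_card.2
  have hUp : IsPGroup 2 U := (P.2.comap_of_injective T.subtype T.subtype_injective)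
  obtain ⟨i, hi⟩ := hUp.exists_card_eq
  have hi2 : i ≤ 2 := by
    have hd := card_subgroup_dvd_card U
    rw [hi] at hd
    by_contra hc
    have := (pow_dvd_pow 2 (show 3 ≤ i by omega)).trans hd
    rcases hTcard with h | h <;> rw [h] at this <;> norm_num at this
  obtain ⟨V, hV⟩ : ∃ V : Subgroup T, Nat.card V = 2 ^ 2 := Sylow.exists_subgroup_card_pow_prime 2 (by
    rcases hTcard with h | h <;> rw [h] <;> norm_num)
  have hVC : Nat.card (V.map T.subtype) = 4 := by rw [card_map_of_injective T.subtype_injective, hV]; norm_num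
  have h8 : 8 ∣ Nat.card (P : Subgroup G) := by
    refine P.pow_dvd_card_of_pow_dvd_card (n := 3) ?_
    let ψ : Fin 2 × (V.map T.subtype : Subgroup G) → G := fun q => J ^ (q.1 : ℕ) * (q.2 : G)
    let D : Subgroup G := zpowers J ⊔ V.map T.subtype
    refine dvd_trans ?_ (card_subgroup_dvd_card D)
    have hdisj : Disjoint (zpowers J) (V.map T.subtype) :=
      disjoint_iff.2 (le_bot_iff.1 ((inf_le_inf_left _ (map_subtype_le V)).trans H.prod.2.2.2.1.le))
    have hcard : Nat.card D = 8 := by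
      rw [card_sup_of_commute H hdisj (map_subtype_le V), Nat.card_zpowers, H.central.1, hVC]
    rw [hcard]
    norm_num
  have hPT : Nat.card U * 2 = Nat.card (P : Subgroup G) := card_inter_two H P hJP hPC
  have h1 : Nat.card U = 4 := by
    have : 4 ≤ Nat.card U := by
      have := Nat.le_of_dvd Nat.card_pos h8
      omega
    have : Nat.card U ≤ 4 := by rw [hi]; exact Nat.pow_le_pow_right (by norm_num) hi2
    omega
  rw [← h1]
  exact Nat.card_congr ⟨fun y => ⟨⟨y.1, y.2.2⟩, y.2.1⟩, fun u => ⟨((u : T) : G), u.2, (u : T).2⟩, fun _ => rfl,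
    fun _ => rfl⟩

theorem conjT (H : Hyp G J T m) {p q : G} (hp : p ∈ T) (hpp : p * p = 1) (hp1 : p ≠ 1) (hq : q ∈ T)
    (hqq : q * q = 1) (hq1 : q ≠ 1) : ∃ c, c ∈ T ∧ c * p * c⁻¹ = q := by
  obtain ⟨e⟩ := H.iso
  have key : ∀ {n : ℕ}, n = m → (∀ a b : alternatingGroup (Fin n), a * a = 1 → a ≠ 1 → b * b = 1 → b ≠ 1 →
      ∃ c : alternatingGroup (Fin n), c * a * c⁻¹ = b) → ∃ c, c ∈ T ∧ c * p * c⁻¹ = q := by
    intro n hn hh
    subst hn
    obtain ⟨c, hc⟩ := hh (e ⟨p, hp⟩) (e ⟨q, hq⟩)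
      (by rw [← map_mul, ← map_one e]; exact congrArg e (Subtype.ext hpp))
      (fun h => hp1 (congrArg Subtype.val (e.injective (h.trans (map_one e).symm))))
      (by rw [← map_mul, ← map_one e]; exact congrArg e (Subtype.ext hqq))
      (fun h => hq1 (congrArg Subtype.val (e.injective (h.trans (map_one e).symm))))
    refine ⟨(e.symm c : T), (e.symm c).2, ?_⟩
    exact congrArg Subtype.val (e.injective (show e (e.symm c * ⟨p, hp⟩ * (e.symm c)⁻¹) = e ⟨q, hq⟩ by
      rw [map_mul, map_mul, map_inv, MulEquiv.apply_symm_apply, hc]))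
  rcases H.degree with h | h
  · exact key h.symm alt_invol_conj
  · exact key h.symm alt_invol_conj'

theorem Hyp.one_class (H : Hyp G J T m) : ∀ x : G, x * x = 1 → x ≠ 1 → IsConj J x := by
  classical
  have hp : Fact (Nat.Prime 2) := ⟨Nat.prime_two⟩
  obtain ⟨hord, P, hJP, hPc⟩ := H.central
  obtain ⟨g₀, hg₀⟩ := H.conj_mem P hJP hPc
  have hPC : ∀ x ∈ (P : Subgroup G), x ∈ centralizer ({J} : Set G) := fun x hx =>
    mem_centralizer_singleton_iff.2 (hPc x hx)
  obtain ⟨e⟩ := H.iso
  have hJ1 : J ≠ 1 := fun h => by rw [h, orderOf_one] at hord; norm_num at hord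
  have hg₀1 : g₀ * J * g₀⁻¹ ≠ 1 := fun h => hJ1 (by
    calc J = g₀⁻¹ * (g₀ * J * g₀⁻¹) * g₀ := by group
      _ = 1 := by rw [h]; group)
  have hg₀2 : g₀ * J * g₀⁻¹ * (g₀ * J * g₀⁻¹) = 1 := by
    calc _ = g₀ * (J * J) * g₀⁻¹ := by group
      _ = 1 := by rw [H.sq]; group
  -- involutions of `T` are conjugate to `J`
  have hT : ∀ x ∈ T, x * x = 1 → x ≠ 1 → IsConj J x := by
    intro x hx hxx hx1
    have h1 : IsConj J (g₀ * J * g₀⁻¹) := isConj_iff.2 ⟨g₀, rfl⟩
    refine h1.trans ?_
    have hfin : ∃ c : T, c * ⟨_, hg₀⟩ * c⁻¹ = (⟨x, hx⟩ : T) := by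
      have key : ∀ {n : ℕ}, n = m → (∀ a b : alternatingGroup (Fin n), a * a = 1 → a ≠ 1 → b * b = 1 → b ≠ 1 →
          ∃ c : alternatingGroup (Fin n), c * a * c⁻¹ = b) → ∃ c : T, c * ⟨_, hg₀⟩ * c⁻¹ = (⟨x, hx⟩ : T) := by
        intro n hn hh
        subst hn
        obtain ⟨c, hc⟩ := hh (e ⟨_, hg₀⟩) (e ⟨x, hx⟩) (by rw [← map_mul, ← map_one e]; exact congrArg e (Subtype.ext hg₀2))
          (fun h => hg₀1 (congrArg Subtype.val (e.injective (h.trans (map_one e).symm))))
          (by rw [← map_mul, ← map_one e]; exact congrArg e (Subtype.ext hxx))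
          (fun h => hx1 (congrArg Subtype.val (e.injective (h.trans (map_one e).symm))))
        exact ⟨e.symm c, e.injective (by rw [map_mul, map_mul, map_inv, MulEquiv.apply_symm_apply, hc])⟩
      rcases H.degree with h | h
      · exact key h.symm alt_invol_conj
      · exact key h.symm alt_invol_conj'
    obtain ⟨c, hc⟩ := hfin
    exact isConj_iff.2 ⟨c, congrArg Subtype.val hc⟩
  -- the Sylow subgroup
  have hcardC : ∀ x ∈ (P : Subgroup G), x * x = 1 := by
    intro x hx
    obtain ⟨p, hpT, hxp⟩ := H.split (hPC x hx)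
    obtain ⟨k, hk⟩ := (IsPGroup.iff_orderOf.1 P.2) ⟨x, hx⟩
    rw [orderOf_mk] at hk
    have hx2 : x * x = p * p := by
      rcases hxp with rfl | rfl
      · rfl
      · calc J * p * (J * p) = J * (p * J) * p := by group
          _ = p * p := by rw [← H.comm hpT, ← mul_assoc J J p, H.sq, one_mul]
    have hxk : x ^ (2 ^ (k + 1)) = 1 := by
      rw [pow_succ, pow_mul, ← hk, pow_orderOf_eq_one, one_pow]
    have hpk : p ^ (2 ^ (k + 1)) = 1 := by
      rw [pow_succ', pow_mul, pow_two, ← hx2, ← pow_two, ← pow_mul, ← pow_succ']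
      exact hxk
    rw [hx2]
    have key : ∀ {n e₀ : ℕ}, n = m → ¬ 8 ∣ e₀ →
        (∀ a : alternatingGroup (Fin n), a ^ e₀ = 1 ∧ (a ^ 4 = 1 → a * a = 1)) → p * p = 1 := by
      intro n e₀ hn he₀ hh
      subst hn
      have ha : (e ⟨p, hpT⟩) ^ (2 ^ (k + 1)) = 1 := by
        rw [← map_pow, ← map_one e]; exact congrArg e (Subtype.ext hpk)
      obtain ⟨j, -, hj⟩ := (Nat.dvd_prime_pow Nat.prime_two).1 (orderOf_dvd_of_pow_eq_one ha)
      have hje := orderOf_dvd_of_pow_eq_one (hh (e ⟨p, hpT⟩)).1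
      rw [hj] at hje
      have hj2 : j ≤ 2 := by
        by_contra hc
        exact he₀ ((pow_dvd_pow 2 (show 3 ≤ j by omega)).trans hje)
      have := (hh _).2 (orderOf_dvd_iff_pow_eq_one.1 (by rw [hj]; exact pow_dvd_pow 2 hj2))
      rw [← map_mul, ← map_one e] at this
      exact congrArg Subtype.val (e.injective this)
    rcases H.degree with h | h
    · exact key (e₀ := 12) h.symm (by norm_num) exponents_four
    · exact key (e₀ := 30) h.symm (by norm_num) exponents_five
  haveI : IsMulCommutative (P : Subgroup G) := ⟨⟨fun x y => Subtype.ext (by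
    show (x : G) * y = y * x
    have hxy := hcardC _ (mul_mem x.2 y.2)
    rw [← inv_eq_of_mul_eq_one_left hxy, mul_inv_rev, inv_eq_of_mul_eq_one_left (hcardC _ x.2),
      inv_eq_of_mul_eq_one_left (hcardC _ y.2)])⟩⟩
  -- all involutions of `P`
  have hP : ∀ x ∈ (P : Subgroup G), x ≠ 1 → IsConj J x := by
    have hQ : Nat.card {y : G // y ∈ (P : Subgroup G) ∧ y ∈ T} = 4 := sylow_inter H P hJP hPC
    by_contra hcon
    push Not at hcon
    obtain ⟨x₁, hx₁, hx₁1, hx₁J⟩ := hcon
    -- the fused elements are `J` and the involutions in `P ∩ T`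
    have hset : ∀ y, (y ∈ (P : Subgroup G) ∧ IsConj J y) ↔
        (y = J ∨ ((y ∈ (P : Subgroup G) ∧ y ∈ T) ∧ y ≠ 1)) := by
      intro y
      constructor
      · rintro ⟨hy, hyJ⟩
        obtain ⟨p, hpT, hyp⟩ := H.split (hPC y hy)
        rcases hyp with rfl | rfl
        · refine Or.inr ⟨⟨hy, hpT⟩, fun h => ?_⟩
          rw [h, isConj_one_left] at hyJ
          exact hJ1 hyJ
        · left
          by_contra hne
          have hp1 : p ≠ 1 := fun h => hne (by rw [h, mul_one])
          obtain ⟨p₁, hp₁T, hx₁p⟩ := H.split (hPC x₁ hx₁)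
          rcases hx₁p with rfl | rfl
          · exact hx₁J (hT _ hp₁T (hcardC _ hx₁) hx₁1)
          · have hp₁1 : p₁ ≠ 1 := fun h => hx₁J (by rw [h, mul_one])
            have sq : ∀ q ∈ T, J * q ∈ (P : Subgroup G) → q * q = 1 := fun q hq hJq => by
              have h := hcardC _ hJq
              rwa [show J * q * (J * q) = J * (q * J) * q by group, ← H.comm hq, ← mul_assoc J J q, H.sq,
                one_mul] at h
            obtain ⟨c, hc, he⟩ := conjT H hpT (sq p hpT hy) hp1 hp₁T (sq p₁ hp₁T hx₁) hp₁1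
            refine hx₁J (hyJ.trans (isConj_iff.2 ⟨c, ?_⟩))
            rw [← he]
            calc c * (J * p) * c⁻¹ = (c * J) * p * c⁻¹ := by group
              _ = J * (c * p * c⁻¹) := by rw [← H.comm hc]; group
      · rintro (rfl | ⟨⟨hy, hyT⟩, hy1⟩)
        · exact ⟨hJP, IsConj.refl _⟩
        · exact ⟨hy, hT y hyT (hcardC y hy) hy1⟩
    have hodd := Cfsg.Lib.JankoOne.orbit_odd P hJP
    let Q := {y : G // y ∈ (P : Subgroup G) ∧ y ∈ T}
    let F : {y : G // y ∈ (P : Subgroup G) ∧ IsConj J y} → Q := fun y =>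
      if h : (y : G) = J then ⟨1, one_mem _, one_mem _⟩ else ⟨y, ((hset y).1 y.2 |>.resolve_left h).1⟩
    have hF : Function.Bijective F := by
      constructor
      · intro y z hyz
        have := congrArg Subtype.val hyz
        simp only [F] at this
        split_ifs at this with h1 h2 h2
        · exact Subtype.ext (h1.trans h2.symm)
        · exact absurd this.symm ((hset z).1 z.2 |>.resolve_left h2).2
        · exact absurd this ((hset y).1 y.2 |>.resolve_left h1).2
        · exact Subtype.ext this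
      · intro q
        by_cases h : (q : G) = 1
        · exact ⟨⟨J, (hset J).2 (Or.inl rfl)⟩, Subtype.ext (by simp [F, h])⟩
        · refine ⟨⟨q, (hset q).2 (Or.inr ⟨q.2, h⟩)⟩, ?_⟩
          have hne : (q : G) ≠ J := fun e => H.J_notMem (e ▸ q.2.2)
          exact Subtype.ext (by simp [F, hne])
    rw [Nat.card_eq_of_bijective F hF, hQ] at hodd
    exact absurd hodd (by decide)
  intro x hxx hx1
  obtain ⟨R, hR⟩ := (IsPGroup.of_card (p := 2) (n := 1) (by
    rw [Nat.card_zpowers, orderOf_eq_prime (by rw [pow_two, hxx]) hx1, pow_one]) : IsPGroup 2 (zpowers x)).exists_le_sylow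
  obtain ⟨g, hg⟩ := MulAction.exists_smul_eq G P R
  have hx' := hR (mem_zpowers x)
  rw [← hg, Sylow.coe_subgroup_smul] at hx'
  obtain ⟨y, hy, rfl⟩ := hx'
  refine (hP y hy fun h => hx1 (by rw [h]; simp)).trans (isConj_iff.2 ⟨g, rfl⟩)

end Cfsg.Lib.TwoTimesAlt
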