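import Cfsg.Agent.TwoTimesAlt.Nine

/-!
Generators with the relations of `PΓL(2, 8)`.
-/

set_option autoImplicit false
set_option linter.unusedSectionVars false

namespace Cfsg.Lib.TwoTimesAlt

open Subgroup Rels

universe u

variable {G : Type u} [Group G] [Finite G] {J : G} {T : Subgroup G} {S : Subgroup G}

local notation "M" => Subgroup.normalizer (S : Set G)

theorem wp_add' {w : G} (h7 : w ^ 7 = 1) (i j : ZMod 7) : wp w (i + j) = wp w i * wp w j := pow_val_add h7 i j

theorem wp_neg' {w : G} (h7 : w ^ 7 = 1) (i : ZMod 7) : wp w (-i) = (wp w i)⁻¹ :=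
  eq_inv_of_mul_eq_one_left (by rw [← wp_add' h7, neg_add_cancel]; exact wp_zero)

theorem tt_shift {w : G} (h7 : w ^ 7 = 1) (s : G) (i j : ZMod 7) :
    wp w j * tt s w i * (wp w j)⁻¹ = tt s w (j + i) := by
  rw [tt, tt, wp_add' h7]; group

/-- The multiplication `s₀ s₁` determines the minimal polynomial. -/
theorem Setup.poly (hS : Setup J S) (H : Hyp G J T 4) {w y s : G} (hw : w ∈ M) (ho : orderOf w = 7)
    (hyw : y * w * y⁻¹ = w ^ 2) (hs : s ∈ S) (hs1 : s ≠ 1) (hys : y * s * y⁻¹ = s) :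
    ∃ j : ZMod 7, (j = 3 ∨ j = 5) ∧ ∀ i, tt s w i * tt s w (i + 1) = tt s w (i + j) := by
  have h7 : w ^ 7 = 1 := by rw [← ho, pow_orderOf_eq_one]
  have hinj : ∀ a b, tt s w a = tt s w b → a = b := fun a b h =>
    (hS.orbit H hw ho hs hs1).1 (Subtype.ext h)
  have hmem : ∀ i, tt s w i ∈ S := fun i => normalizer_conj (pow_mem hw _) hs
  have hsq : ∀ i, tt s w i * tt s w i = 1 := fun i => hS.sq _ (hmem i)
  have hy : ∀ i, y * tt s w i * y⁻¹ = tt s w (2 * i) := by
    intro i
    have e : y * wp w i * y⁻¹ = wp w (2 * i) := by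
      show y * w ^ i.val * y⁻¹ = w ^ (2 * i).val
      rw [conj_wpow hyw, ZMod.val_mul, ← pow_eq_pow_mod _ h7]
      rfl
    calc y * tt s w i * y⁻¹ = (y * wp w i * y⁻¹) * (y * s * y⁻¹) * (y * wp w i * y⁻¹)⁻¹ := by rw [tt]; group
      _ = tt s w (2 * i) := by rw [e, hys, tt]
  have hne : s * tt s w 1 ≠ 1 := fun h => by
    have := hinj 0 1 (by rw [tt_zero]; exact (eq_inv_of_mul_eq_one_left h).trans (inv_eq_of_mul_eq_one_left (hsq 1)))
    exact absurd this (by decide)
  obtain ⟨j, hj⟩ := hS.conj_eq H hw ho hs hs1 (mul_mem hs (hmem 1)) hne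
  have R1 : ∀ i, tt s w i * tt s w (i + 1) = tt s w (i + j) := by
    intro i
    calc tt s w i * tt s w (i + 1) = wp w i * (s * tt s w 1) * (wp w i)⁻¹ := by
          rw [← tt_shift h7 s 1 i, tt]; group
      _ = _ := by rw [← hj]; exact tt_shift h7 s j i
  have R2 : ∀ i, tt s w i * tt s w (i + 2) = tt s w (i + 2 * j) := by
    intro i
    obtain ⟨k, rfl⟩ : ∃ k, i = 2 * k := ⟨4 * i, by rw [← mul_assoc, show (2 : ZMod 7) * 4 = 1 from by decide, one_mul]⟩
    have h := congrArg (fun z => y * z * y⁻¹) (R1 k)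
    rw [show (2 : ZMod 7) * k + 2 = 2 * (k + 1) by ring, ← mul_add, ← hy k, ← hy (k + 1), ← hy (k + j)]
    rw [show y * tt s w k * y⁻¹ * (y * tt s w (k + 1) * y⁻¹) = y * (tt s w k * tt s w (k + 1)) * y⁻¹ by group]
    exact h
  have R4 : ∀ i, tt s w i * tt s w (i + 4) = tt s w (i + 4 * j) := by
    intro i
    obtain ⟨k, rfl⟩ : ∃ k, i = 2 * k := ⟨4 * i, by rw [← mul_assoc, show (2 : ZMod 7) * 4 = 1 from by decide, one_mul]⟩
    have h := congrArg (fun z => y * z * y⁻¹) (R2 k)
    rw [show (2 : ZMod 7) * k + 4 = 2 * (k + 2) by ring, show (4 : ZMod 7) * j = 2 * (2 * j) by ring, ← mul_add,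
      ← hy k, ← hy (k + 2), ← hy (k + 2 * j)]
    rw [show y * tt s w k * y⁻¹ * (y * tt s w (k + 2) * y⁻¹) = y * (tt s w k * tt s w (k + 2)) * y⁻¹ by group]
    exact h
  have swap : ∀ {a b : ZMod 7}, (∀ i, tt s w i * tt s w (i + a) = tt s w (i + b)) →
      ∀ i, tt s w i * tt s w (i + b) = tt s w (i + a) := fun h i => by
    rw [← h i, ← mul_assoc, hsq, one_mul]
  have uniq : ∀ {a b c : ZMod 7}, (∀ i, tt s w i * tt s w (i + a) = tt s w (i + b)) →
      (∀ i, tt s w i * tt s w (i + a) = tt s w (i + c)) → b = c := fun h h' => by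
    have := hinj _ _ ((h 0).symm.trans (h' 0))
    rwa [zero_add, zero_add] at this
  refine ⟨j, ?_, R1⟩
  have key : ∀ j : ZMod 7, j = 0 ∨ j = 1 ∨ j = 2 ∨ j = 3 ∨ j = 4 ∨ j = 5 ∨ j = 6 := by decide
  rcases key j with rfl | rfl | rfl | rfl | rfl | rfl | rfl
  · exfalso
    have h := R1 0
    rw [add_zero, zero_add, tt_zero] at h
    refine absurd (hinj 1 0 (?_)) (by decide)
    have h1 : tt s w 1 = 1 := mul_eq_left.1 h
    exact absurd h1 (conj_ne_one _ hs1)
  · exfalso
    have h := R1 0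
    rw [zero_add, tt_zero] at h
    exact hs1 (mul_eq_right.1 h)
  · exact absurd (uniq (swap R1) R2) (by decide)
  · exact Or.inl rfl
  · have h := uniq (swap R1) R4
    exact absurd h (by decide)
  · exact Or.inr rfl
  · exfalso
    have h : ∀ i, tt s w (i + 1) * tt s w (i + 1 + 6) = tt s w (i + 6) := fun i => by
      rw [show i + 1 + (6 : ZMod 7) = i + 7 by ring, show (7 : ZMod 7) = 0 from rfl, add_zero,
        hS.comm (hmem _) (hmem _)]
      exact R1 i
    have h' : ∀ i, tt s w i * tt s w (i + 6) = tt s w (i + 5) := fun i => by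
      have := h (i + 6)
      rwa [show i + 6 + 1 = i + (7 : ZMod 7) by ring, show (7 : ZMod 7) = 0 from rfl, add_zero,
        show i + 6 + (6 : ZMod 7) = i + 12 by ring, show (12 : ZMod 7) = 5 from rfl] at this
    exact absurd (uniq (swap R1) h') (by decide)

theorem Setup.gens (hS : Setup J S) (H : Hyp G J T 4) (hns : ¬ Group.IsSolvable G) :
    ∃ s w y x : G, Rels s w y x ∧ closure {s, w, y, x} = (⊤ : Subgroup G) ∧ Nat.card G = 1512 := by
  classical
  obtain ⟨w, x, y₀, hw, ho, hxx, hx, hxw, hy₀, hy₀w, hwx, hcent, hG, hcos⟩ := hS.shape H hns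
  have h7 : w ^ 7 = 1 := by rw [← ho, pow_orderOf_eq_one]
  have hxi : x⁻¹ = x := inv_eq_of_mul_eq_one_left hxx
  have hzp : ∀ c ∈ zpowers w, ∃ i : ZMod 7, c = wp w i := by
    intro c hc
    obtain ⟨n, rfl⟩ := Submonoid.mem_powers_iff _ _ |>.1 (mem_powers_iff_mem_zpowers.2 hc)
    exact ⟨(n : ZMod 7), by rw [wp, ZMod.val_natCast, ← pow_eq_pow_mod _ h7]⟩
  have hxwp : ∀ i, x * wp w i * x = wp w (-i) := by
    intro i
    have := conj_pow (i := i.val) (a := x) (b := w)
    rw [hxi, hxw, inv_pow] at this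
    rw [wp_neg' h7]
    exact this.symm
  -- make `y` commute with `x`
  obtain ⟨j, hj⟩ : ∃ j, y₀⁻¹ * (x * y₀ * x) = wp w j := by
    refine hzp _ (hcent _ ?_)
    have e : x * y₀ * x * w * (x * y₀ * x)⁻¹ = y₀ * w * y₀⁻¹ := by
      calc x * y₀ * x * w * (x * y₀ * x)⁻¹ = x * y₀ * (x * w * x⁻¹) * y₀⁻¹ * x⁻¹ := by group
        _ = x * (y₀ * w * y₀⁻¹)⁻¹ * x⁻¹ := by rw [hxi, hxw]; group
        _ = (x * w ^ 2 * x⁻¹)⁻¹ := by rw [hy₀w]; group
        _ = _ := by rw [← conj_pow, hxi, hxw, inv_pow, inv_inv, hy₀w]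
    refine mul_inv_eq_iff_eq_mul.1 ?_
    calc y₀⁻¹ * (x * y₀ * x) * w * (y₀⁻¹ * (x * y₀ * x))⁻¹ = y₀⁻¹ * (x * y₀ * x * w * (x * y₀ * x)⁻¹) * y₀ := by group
      _ = w := by rw [e]; group
  obtain ⟨y, hy⟩ : ∃ y, y = y₀ * wp w (4 * j) := ⟨_, rfl⟩
  have hj' : x * y₀ * x = y₀ * wp w j := by rw [← hj]; group
  have hxy : x * y * x = y := by
    rw [hy]
    calc x * (y₀ * wp w (4 * j)) * x = (x * y₀ * x) * (x⁻¹ * wp w (4 * j) * x) := by group
      _ = y₀ * (wp w j * wp w (-(4 * j))) := by rw [hxi, hj', hxwp]; group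
      _ = _ := by
          rw [← wp_add' h7]
          congr 2
          have : ∀ j : ZMod 7, j + -(4 * j) = 4 * j := by decide
          exact this j
  have hyw : y * w * y⁻¹ = w ^ 2 := by
    calc y * w * y⁻¹ = y₀ * w * y₀⁻¹ := by rw [hy, wp]; group
      _ = w ^ 2 := hy₀w
  have hyM : y ∈ M := by rw [hy]; exact mul_mem (mem_inter.1 hy₀).1 (pow_mem hw _)
  have hy3 : y ^ 3 = 1 := by
    have e2 : y * (y * (y * w * y⁻¹) * y⁻¹) * y⁻¹ = w := by
      rw [hyw, conj_wpow hyw, conj_wpow hyw, pow_eq_pow_mod _ h7]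
      exact pow_one w
    obtain ⟨i, hi⟩ := hzp _ (hcent (y ^ 3) (mul_inv_eq_iff_eq_mul.1 (by
      rw [show y ^ 3 * w * (y ^ 3)⁻¹ = y * (y * (y * w * y⁻¹) * y⁻¹) * y⁻¹ by rw [pow_succ, pow_two]; group, e2])))
    have hfix : wp w i = wp w (2 * i) := by
      calc wp w i = y * wp w i * y⁻¹ := by rw [← hi]; group
        _ = _ := by
          show y * w ^ i.val * y⁻¹ = w ^ (2 * i).val
          rw [conj_wpow hyw, ZMod.val_mul, ← pow_eq_pow_mod _ h7]
          rfl
    have hi0 : wp w i = 1 := by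
      have e : wp w (2 * i) = wp w i * wp w i := by rw [two_mul, wp_add' h7]
      rw [e] at hfix
      exact mul_eq_left.1 hfix.symm
    rw [hi, hi0]
  -- the fixed involution
  obtain ⟨a, ha⟩ := hS.conj_eq H hw ho hS.memJ H.J_ne (normalizer_conj hyM hS.memJ) (conj_ne_one y H.J_ne)
  obtain ⟨s, hs⟩ : ∃ s, s = wp w (-a) * J * (wp w (-a))⁻¹ := ⟨_, rfl⟩
  have hsS : s ∈ S := hs ▸ normalizer_conj (pow_mem hw _) hS.memJ
  have hs1 : s ≠ 1 := hs ▸ conj_ne_one _ H.J_ne
  have hys : y * s * y⁻¹ = s := by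
    have e : y * wp w (-a) * y⁻¹ = wp w (2 * -a) := by
      show y * w ^ (-a).val * y⁻¹ = w ^ (2 * -a).val
      rw [conj_wpow hyw, ZMod.val_mul, ← pow_eq_pow_mod _ h7]
      rfl
    calc y * s * y⁻¹ = (y * wp w (-a) * y⁻¹) * (y * J * y⁻¹) * (y * wp w (-a) * y⁻¹)⁻¹ := by rw [hs]; group
      _ = wp w (2 * -a) * wp w a * J * (wp w (2 * -a) * wp w a)⁻¹ := by rw [e, ← ha]; rw [wp, wp]; group
      _ = s := by rw [← wp_add' h7, show 2 * -a + a = -a by ring, hs]
  -- fixed cosets of `y`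
  have hfixed : ∀ p ∈ S, y * p * y⁻¹ = p → p = 1 ∨ p = s := by
    intro p hp hpy
    by_cases hp1 : p = 1
    · exact Or.inl hp1
    obtain ⟨i, rfl⟩ := hS.conj_eq H hw ho hsS hs1 hp hp1
    right
    have e : y * wp w i * y⁻¹ = wp w (2 * i) := by
      show y * w ^ i.val * y⁻¹ = w ^ (2 * i).val
      rw [conj_wpow hyw, ZMod.val_mul, ← pow_eq_pow_mod _ h7]
      rfl
    have h : tt s w (2 * i) = tt s w i := by
      calc tt s w (2 * i) = (y * wp w i * y⁻¹) * (y * s * y⁻¹) * (y * wp w i * y⁻¹)⁻¹ := by rw [e, hys, tt]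
        _ = y * tt s w i * y⁻¹ := by rw [tt]; group
        _ = _ := hpy
    have h2 := (hS.orbit H hw ho hsS hs1).1 (Subtype.ext h)
    have : i = 0 := by
      have key : ∀ i : ZMod 7, 2 * i = i → i = 0 := by decide
      exact key i h2
    subst this
    exact tt_zero
  have hyx : x * y = y * x := by
    calc x * y = (x * y * x) * x := by rw [mul_assoc (x * y) x x, hxx, mul_one]
      _ = _ := by rw [hxy]
  have hsy : s * y = y * s := (mul_inv_eq_iff_eq_mul.1 hys).symm
  have hsM : s ∈ M := le_normalizer hsS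
  -- the braid relation
  have hbraid : s * x * (s * x) * (s * x) = 1 := by
    set z := s * x with hz
    have hzy : y * z = z * y := by rw [hz, ← mul_assoc, ← hsy, mul_assoc, ← hyx, ← mul_assoc]
    let q : G → G ⧸ (M : Subgroup G) := QuotientGroup.mk
    have hfix3 : ∀ g, q (y * g) = q g → q g = q 1 ∨ q g = q x ∨ q g = q (s * x) := by
      intro g hg
      by_cases hgM : g ∈ M
      · exact Or.inl (QuotientGroup.eq.2 (by rw [mul_one]; exact inv_mem hgM))
      obtain ⟨p, hp, hgp⟩ := hcos g hgM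
      have hq : q g = q (p * x) := QuotientGroup.eq.2 hgp
      have hy' : q (y * p * y⁻¹ * x) = q (p * x) := by
        have h1 : q (y * g) = q (y * (p * x)) := QuotientGroup.eq.2 (by
          rw [show (y * g)⁻¹ * (y * (p * x)) = g⁻¹ * (p * x) by group]; exact hgp)
        rw [← hq, ← hg, h1]
        refine QuotientGroup.eq.2 ?_
        rw [show (y * p * y⁻¹ * x)⁻¹ * (y * (p * x)) = x⁻¹ * y * x * 1 by group, hxi, mul_one, hxy]
        exact hyM
      have hm := QuotientGroup.eq.1 hy'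
      rw [show (y * p * y⁻¹ * x)⁻¹ * (p * x) = x⁻¹ * ((y * p * y⁻¹)⁻¹ * p) * x by group] at hm
      have hpp : (y * p * y⁻¹)⁻¹ * p ∈ S := mul_mem (inv_mem (normalizer_conj hyM hp)) hp
      have := hS.embedded hx (le_normalizer hpp) hm (hS.sq _ hpp)
      rcases hfixed p hp (inv_mul_eq_one.1 this) with rfl | rfl
      · exact Or.inr (Or.inl (by rw [hq, one_mul]))
      · exact Or.inr (Or.inr hq)
    have hzq : ∀ g h, q g = q h → q (z * g) = q (z * h) := fun g h e => QuotientGroup.eq.2 (by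
      rw [show (z * g)⁻¹ * (z * h) = g⁻¹ * h by group]; exact QuotientGroup.eq.1 e)
    have hzq' : ∀ g h, q (z * g) = q (z * h) → q g = q h := fun g h e => QuotientGroup.eq.2 (by
      have := QuotientGroup.eq.1 e
      rwa [show (z * g)⁻¹ * (z * h) = g⁻¹ * h by group] at this)
    have z0 : q (z * 1) = q (s * x) := by rw [mul_one]
    have z1 : q (z * x) = q 1 := QuotientGroup.eq.2 (by
      rw [mul_one, inv_mem_iff, hz, mul_assoc, hxx, mul_one]; exact hsM)
    have n12 : q x ≠ q (s * x) := fun e => by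
      have hm := QuotientGroup.eq.1 e
      rw [← mul_assoc] at hm
      exact hs1 (hS.embedded hx hsM hm (hS.sq s hsS))
    have n02 : q 1 ≠ q (s * x) := fun e => by
      have hm := QuotientGroup.eq.1 e
      rw [inv_one, one_mul] at hm
      refine hx ?_
      have := mul_mem (inv_mem hsM) hm
      rwa [inv_mul_cancel_left] at this
    have z2 : q (z * (s * x)) = q x := by
      rcases hfix3 (z * (s * x)) (by
        rw [← mul_assoc y z, hzy, mul_assoc z y]
        refine hzq _ _ (QuotientGroup.eq.2 ?_)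
        rw [show (y * (s * x))⁻¹ * (s * x) = x⁻¹ * (s⁻¹ * y⁻¹ * s) * x by group,
          show s⁻¹ * y⁻¹ * s = y⁻¹ by rw [← inv_inj]; simp only [mul_inv_rev, inv_inv]; rw [← mul_assoc, mul_assoc _ y s, ← hsy, ← mul_assoc, inv_mul_cancel, one_mul]]
        rw [show x⁻¹ * y⁻¹ * x = (x * y * x)⁻¹ by rw [hxi]; simp only [mul_inv_rev, hxi, mul_assoc], hxy]
        exact inv_mem hyM) with e | e | e
      · exact absurd (hzq' _ _ (e.trans z1.symm)) (Ne.symm n12)
      · exact e
      · exact absurd (hzq' _ _ (e.trans z0.symm)) (Ne.symm n02)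
    have f0 : q (z * (z * (z * 1))) = q 1 := by
      rw [hzq _ _ (hzq _ _ z0), hzq _ _ z2, z1]
    have f1 : q (z * (z * (z * x))) = q x := by
      rw [hzq _ _ (hzq _ _ z1), hzq _ _ z0, z2]
    have hdM : z * z * z ∈ M := by
      have hm := QuotientGroup.eq.1 f0
      rw [mul_one, mul_one, inv_mem_iff, ← mul_assoc] at hm
      exact hm
    have hdi : z * z * z ∈ inter S x := mem_inter.2 ⟨hdM, by
      have hm := QuotientGroup.eq.1 f1.symm
      rwa [show x⁻¹ * (z * (z * (z * x))) = x⁻¹ * (z * z * z) * x by group] at hm⟩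
    have hdx : x * (z * z * z) * x = (z * z * z)⁻¹ := by
      have hsi : s⁻¹ = s := inv_eq_of_mul_eq_one_left (hS.sq s hsS)
      rw [hz]
      simp only [mul_inv_rev, hsi, hxi]
      calc x * (s * x * (s * x) * (s * x)) * x = x * s * (x * (s * (x * s))) * (x * x) := by group
        _ = _ := by rw [hxx, mul_one]; group
    obtain ⟨i, hi⟩ := hzp _ (hS.inverted_mem H hxx hx hwx ho hdi hdx)
    have hd1 : y * (z * z * z) = z * z * z * y := by
      exact ((show Commute y z from hzy).mul_right hzy).mul_right hzy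
    have hfix : wp w i = wp w (2 * i) := by
      rw [hi] at hd1
      calc wp w i = y * wp w i * y⁻¹ := (mul_inv_eq_of_eq_mul hd1).symm
        _ = _ := by
          show y * w ^ i.val * y⁻¹ = w ^ (2 * i).val
          rw [conj_wpow hyw, ZMod.val_mul, ← pow_eq_pow_mod _ h7]
          rfl
    rw [hi]
    rw [two_mul, wp_add' h7] at hfix
    exact mul_eq_left.1 hfix.symm
  -- generation
  have hgen : closure {s, w, y, x} = (⊤ : Subgroup G) := by
    set K := closure ({s, w, y, x} : Set G) with hK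
    have hsK : s ∈ K := subset_closure (by simp)
    have hwK : w ∈ K := subset_closure (by simp)
    have hyK : y ∈ K := subset_closure (by simp)
    have hxK : x ∈ K := subset_closure (by simp)
    have hSK : S ≤ K := by
      intro p hp
      by_cases hp1 : p = 1
      · exact hp1 ▸ one_mem K
      obtain ⟨i, rfl⟩ := hS.conj_eq H hw ho hsS hs1 hp hp1
      exact mul_mem (mul_mem (pow_mem hwK _) hsK) (inv_mem (pow_mem hwK _))
    have hyo : orderOf y = 3 := orderOf_eq_prime hy3 (fun h => by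
      rw [h, one_mul, inv_one, mul_one] at hyw
      have := mul_eq_left.1 ((pow_two w).symm.trans hyw.symm)
      rw [this, orderOf_one] at ho
      norm_num at ho)
    have hMK : (M : Subgroup G) ≤ K := by
      have hd : 168 ∣ Nat.card (M ⊓ K : Subgroup G) := by
        have d8 : 8 ∣ Nat.card (M ⊓ K : Subgroup G) := hS.card ▸ card_dvd_of_le (le_inf le_normalizer hSK)
        have d7 : 7 ∣ Nat.card (M ⊓ K : Subgroup G) := by
          have := card_dvd_of_le (zpowers_le.2 (show w ∈ (M ⊓ K : Subgroup G) from ⟨hw, hwK⟩))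
          rwa [Nat.card_zpowers, ho] at this
        have d3 : 3 ∣ Nat.card (M ⊓ K : Subgroup G) := by
          have := card_dvd_of_le (zpowers_le.2 (show y ∈ (M ⊓ K : Subgroup G) from ⟨hyM, hyK⟩))
          rwa [Nat.card_zpowers, hyo] at this
        omega
      have : (M ⊓ K : Subgroup G) = M := eq_of_le_of_card_ge inf_le_left (by
        rw [hS.card_normalizer H]; exact Nat.le_of_dvd Nat.card_pos hd)
      exact inf_eq_left.1 this
    refine eq_top_iff.2 fun g _ => ?_
    by_cases hg : g ∈ M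
    · exact hMK hg
    obtain ⟨p, hp, hgp⟩ := hcos g hg
    have := mul_mem (mul_mem (hSK hp) hxK) (inv_mem (hMK hgp))
    rwa [mul_inv_rev, inv_inv, mul_inv_cancel_left] at this
  -- choose the polynomial
  obtain ⟨k, hk, hR⟩ := hS.poly H hw ho hyw hsS hs1 hys
  have base : k = 3 → Rels s w y x := fun hk => ⟨hS.sq s hsS, hxx, h7, hy3, hyw, hxw, hyx, hsy, by
    have := hR 0
    rw [hk, zero_add, zero_add, tt_zero, tt, tt, wp_one] at this
    exact this, hbraid⟩
  rcases hk with hk | hk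
  · exact ⟨s, w, y, x, base hk, hgen, hG⟩
  · refine ⟨s, w⁻¹, y, x, ⟨hS.sq s hsS, hxx, by rw [inv_pow, h7, inv_one], hy3, ?_, ?_, hyx, hsy, ?_, hbraid⟩, ?_, hG⟩
    · rw [inv_pow, ← hyw]; group
    · rw [inv_inv, ← hxw, show x * (x * w * x) * x = x * x * w * (x * x) by group, hxx, one_mul, mul_one]
    · have hmem : ∀ i, tt s w i ∈ S := fun i => normalizer_conj (pow_mem hw _) hsS
      have h := hR 6
      rw [hk, show (6 : ZMod 7) + 1 = 0 from rfl, show (6 : ZMod 7) + 5 = 4 from rfl, hS.comm (hmem _) (hmem _),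
        tt_zero, tt, tt] at h
      have e6 : wp w (6 : ZMod 7) = w⁻¹ := by
        rw [show (6 : ZMod 7) = -1 from rfl, wp_neg' h7, wp_one]
      have e4 : wp w (4 : ZMod 7) = w⁻¹ ^ 3 := by
        rw [show (4 : ZMod 7) = -(1 + 1 + 1) from rfl, wp_neg' h7, wp_add' h7, wp_add' h7, wp_one, inv_pow, pow_succ,
          pow_two]
      rw [e6, e4] at h
      exact h
    · refine eq_top_iff.2 (hgen ▸ (closure_le _).2 ?_)
      rintro g (rfl | rfl | rfl | rfl)
      · exact subset_closure (by simp)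
      · exact inv_inv g ▸ inv_mem (subset_closure (by simp))
      · exact subset_closure (by simp)
      · exact subset_closure (by simp)

theorem Hyp.gens (H : Hyp G J T 4) (hns : ¬ Group.IsSolvable G) :
    ∃ s w y x : G, Rels s w y x ∧ closure {s, w, y, x} = (⊤ : Subgroup G) ∧ Nat.card G = 1512 := by
  obtain ⟨P, hS⟩ := H.setup
  exact hS.gens H hns

end Cfsg.Lib.TwoTimesAlt
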