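import Cfsg.Agent.TwoTimesAlt.Seven

/-!
The strongly embedded subgroup has index nine.
-/

set_option autoImplicit false
set_option linter.unusedSectionVars false

namespace Cfsg.Lib.TwoTimesAlt

open Subgroup

universe u

variable {G : Type u} [Group G] [Finite G] {J : G} {T : Subgroup G} {S : Subgroup G}

local notation "M" => Subgroup.normalizer (S : Set G)

theorem Setup.card_invol (hS : Setup J S) (H : Hyp G J T 4) :
    Nat.card {x : G // x * x = 1 ∧ x ≠ 1} = 7 * (M : Subgroup G).index := by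
  classical
  let f : G ⧸ centralizer ({J} : Set G) → {x : G // x * x = 1 ∧ x ≠ 1} :=
    Quotient.lift (fun g => ⟨g * J * g⁻¹, mul_self_conj g J H.sq, conj_ne_one g H.J_ne⟩) (by
      intro a b hab
      have hc := mem_centralizer_singleton_iff.1 (QuotientGroup.leftRel_apply.1 hab)
      refine Subtype.ext ?_
      show a * J * a⁻¹ = b * J * b⁻¹
      calc a * J * a⁻¹ = a * (J * (a⁻¹ * b)) * b⁻¹ := by group
        _ = b * J * b⁻¹ := by rw [← hc]; group)
  have hf : Function.Bijective f := by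
    constructor
    · intro p q h
      obtain ⟨a, rfl⟩ := QuotientGroup.mk_surjective p
      obtain ⟨b, rfl⟩ := QuotientGroup.mk_surjective q
      have h' : a * J * a⁻¹ = b * J * b⁻¹ := congrArg Subtype.val h
      refine QuotientGroup.eq.2 (mem_centralizer_singleton_iff.2 ?_)
      calc a⁻¹ * b * J = a⁻¹ * (b * J * b⁻¹) * b := by group
        _ = J * (a⁻¹ * b) := by rw [← h']; group
    · rintro ⟨x, hx, hx1⟩
      obtain ⟨g, hg⟩ := isConj_iff.1 (H.one_class x hx hx1)
      exact ⟨QuotientGroup.mk g, Subtype.ext hg⟩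
  have h1 := card_mul_index (centralizer ({J} : Set G))
  have h2 := card_mul_index (M : Subgroup G)
  rw [(H.cent_four H.sq H.J_ne).1, ← h2, hS.card_normalizer H] at h1
  rw [← Nat.card_eq_of_bijective f hf, ← Subgroup.index_eq_card]
  omega

/-- The involutions outside `M`. -/
abbrev Outer (S : Subgroup G) : Type u := {x : G // x * x = 1 ∧ x ∉ Subgroup.normalizer (S : Set G)}

theorem Setup.card_outer (hS : Setup J S) (H : Hyp G J T 4) :
    Nat.card (Outer S) + 7 = 7 * (M : Subgroup G).index := by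
  classical
  let e : {x : G // x * x = 1 ∧ x ≠ 1} ≃ Outer S ⊕ {x : G // x ∈ M ∧ x * x = 1 ∧ x ≠ 1} :=
    { toFun := fun x => if h : x.1 ∈ M then .inr ⟨x.1, h, x.2⟩ else .inl ⟨x.1, x.2.1, h⟩
      invFun := Sum.elim (fun x => ⟨x.1, x.2.1, fun h => x.2.2 (by rw [h]; exact one_mem _)⟩) (fun x => ⟨x.1, x.2.2⟩)
      left_inv := fun x => by by_cases h : x.1 ∈ M <;> simp [h]
      right_inv := fun x => by rcases x with x | x <;> simp [x.2.1, x.2.2] }
  rw [← hS.card_invol H, Nat.card_congr e, Nat.card_sum, hS.card_involutions]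

theorem Setup.exists_notMem (hS : Setup J S) (H : Hyp G J T 4) (hns : ¬ Group.IsSolvable G) : ∃ g, g ∉ M := by
  by_contra hcon
  push Not at hcon
  have : S.Normal := ⟨fun p hp g => normalizer_conj (hcon g) hp⟩
  apply hns
  have htop : M = (⊤ : Subgroup G) := eq_top_iff.2 fun g _ => hcon g
  have hG : Nat.card G = 168 := by
    rw [← hS.card_normalizer H, htop, Subgroup.card_top]
  have hq : Nat.card (G ⧸ S) = 21 := by
    have := Subgroup.card_eq_card_quotient_mul_card_subgroup S
    rw [hG, hS.card] at this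
    omega
  have hz : IsZGroup (G ⧸ S) := IsZGroup.of_squarefree (by rw [hq]; decide +kernel)
  haveI : Group.IsSolvable (G ⧸ S) := inferInstance
  haveI : Group.IsSolvable S := Group.isSolvable_of_comm fun a b => Subtype.ext (hS.comm a.2 b.2)
  exact Group.isSolvable_of_ker_le_range S.subtype (QuotientGroup.mk' S) (by simp)

/-- The sum over the cosets: every coset other than `M` contains exactly seven involutions. -/
theorem Setup.fiber_seven (hS : Setup J S) (H : Hyp G J T 4) {g : G} (hg : g ∉ M) :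
    ∃ x : G, x * x = 1 ∧ g⁻¹ * x ∈ M ∧ x ∉ M ∧ Nat.card (Fiber S x) = 7 := by
  classical
  let Q := {q : G ⧸ (M : Subgroup G) // q ≠ QuotientGroup.mk 1}
  have hmk : ∀ x : Outer S, (QuotientGroup.mk x.1 : G ⧸ (M : Subgroup G)) ≠ QuotientGroup.mk 1 := fun x h => by
    have := QuotientGroup.eq.1 h
    rw [mul_one, inv_mem_iff] at this
    exact x.2.2 this
  let π : Outer S → Q := fun x => ⟨QuotientGroup.mk x.1, hmk x⟩
  have : Fintype Q := Fintype.ofFinite Q
  have hsum : Nat.card (Outer S) = ∑ q : Q, Nat.card {x // π x = q} := by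
    rw [← Nat.card_congr (Equiv.sigmaFiberEquiv π), Nat.card_sigma]
  have hfib : ∀ (q : Q) (x : {x // π x = q}), Nat.card {x // π x = q} = Nat.card (Fiber S x.1.1) := by
    intro q x
    refine Nat.card_congr
      { toFun := fun x' => ⟨x'.1.1, x'.1.2.1, ?_⟩
        invFun := fun x' => ⟨⟨x'.1, x'.2.1, ?_⟩, ?_⟩
        left_inv := fun _ => rfl
        right_inv := fun _ => rfl }
    · have h := congrArg Subtype.val (x.2.trans x'.2.symm)
      have := QuotientGroup.eq.1 h
      rwa [inv_eq_of_mul_eq_one_left x.1.2.1] at this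
    · intro h
      apply x.1.2.2
      have := mul_mem x'.2.2 (inv_mem h)
      rwa [mul_inv_cancel_right] at this
    · refine Eq.trans ?_ x.2
      refine Subtype.ext (QuotientGroup.eq.2 ?_)
      show x'.1⁻¹ * x.1.1 ∈ M
      have := inv_mem x'.2.2
      rwa [mul_inv_rev, inv_eq_of_mul_eq_one_left x.1.2.1] at this
  have hle : ∀ q : Q, Nat.card {x // π x = q} ≤ 7 := by
    intro q
    rcases isEmpty_or_nonempty {x // π x = q} with h | ⟨⟨x⟩⟩
    · simp
    · rw [hfib q x]; exact (hS.fiber H x.1.2.1 x.1.2.2).1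
  have hQ : Fintype.card Q + 1 = (M : Subgroup G).index := by
    have : Fintype (G ⧸ (M : Subgroup G)) := Fintype.ofFinite _
    rw [← Nat.card_eq_fintype_card, Subgroup.index_eq_card, Nat.card_eq_fintype_card,
      Nat.card_eq_fintype_card, Fintype.card_subtype_compl, Fintype.card_subtype_eq]
    have := Fintype.card_pos_iff.2 ⟨(QuotientGroup.mk 1 : G ⧸ (M : Subgroup G))⟩
    omega
  have hout := hS.card_outer H
  have heq : ∀ q : Q, Nat.card {x // π x = q} = 7 := by
    have hs : ∑ q : Q, Nat.card {x // π x = q} = ∑ _q : Q, 7 := by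
      rw [← hsum, Finset.sum_const, Finset.card_univ, smul_eq_mul]
      omega
    intro q
    exact (Finset.sum_eq_sum_iff_of_le fun q _ => hle q).1 hs q (Finset.mem_univ q)
  let q : Q := ⟨QuotientGroup.mk g, fun h => hg (by
    have := QuotientGroup.eq.1 h
    rwa [mul_one, inv_mem_iff] at this)⟩
  obtain ⟨x⟩ : Nonempty {x // π x = q} := (Nat.card_pos_iff.1 (by rw [heq q]; norm_num)).1
  refine ⟨x.1.1, x.1.2.1, ?_, x.1.2.2, ?_⟩
  · have := QuotientGroup.eq.1 (congrArg Subtype.val x.2.symm)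
    exact this
  · rw [← hfib q x, heq q]

theorem inter_congr {g x : G} (h : g⁻¹ * x ∈ M) {d : G} : d ∈ inter S g ↔ d ∈ inter S x := by
  rw [mem_inter, mem_inter]
  refine and_congr_right fun _ => ?_
  constructor
  · intro h1
    rw [show x⁻¹ * d * x = (g⁻¹ * x)⁻¹ * (g⁻¹ * d * g) * (g⁻¹ * x) by group]
    exact mul_mem (mul_mem (inv_mem h) h1) h
  · intro h1
    rw [show g⁻¹ * d * g = (g⁻¹ * x) * (x⁻¹ * d * x) * (g⁻¹ * x)⁻¹ by group]
    exact mul_mem (mul_mem h h1) (inv_mem h)

/-- In every coset the involutions invert the elements of order seven of the intersection. -/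
theorem Setup.inverts (hS : Setup J S) (H : Hyp G J T 4) {x w : G} (hxx : x * x = 1) (hx : x ∉ M)
    (hw : w ∈ inter S x) (ho : orderOf w = 7) : x * w * x = w⁻¹ := by
  obtain ⟨x₀, hx₀, hxx₀, hx₀M, h7⟩ := hS.fiber_seven H hx
  obtain ⟨v, hv, hvo, hxv⟩ := (hS.fiber H hx₀ hx₀M).2 h7
  have hd : x₀ * x ∈ M := by
    have := inv_mem hxx₀
    rwa [mul_inv_rev, inv_inv, inv_eq_of_mul_eq_one_left hx₀] at this
  obtain ⟨hdi, hdx⟩ := fiber_props hx₀ hxx hd
  have hw' : w ∈ inter S x₀ := (inter_congr hxx₀).1 hw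
  obtain ⟨a, ha⟩ := mem_zpowers_iff.1 (hS.inverted_mem H hx₀ hx₀M hv hvo hdi hdx)
  obtain ⟨b, hb⟩ := mem_zpowers_iff.1 (hS.seven_unique H hx₀M hw' hv ho hvo)
  have hxeq : x = x₀ * v ^ a := by rw [ha, ← mul_assoc, hx₀, one_mul]
  have hxi : x⁻¹ = x := inv_eq_of_mul_eq_one_left hxx
  have hxv' : x * v * x = v⁻¹ := by
    have e : x * v * x⁻¹ = x₀ * v * x₀⁻¹ := by
      rw [hxeq]
      calc x₀ * v ^ a * v * (x₀ * v ^ a)⁻¹ = x₀ * (v ^ a * v * (v ^ a)⁻¹) * x₀⁻¹ := by group
        _ = _ := by group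
    rw [hxi, inv_eq_of_mul_eq_one_left hx₀, hxv] at e
    exact e
  have h := conj_zpow (i := b) (a := x) (b := v)
  rw [hxi, hxv', hb, inv_zpow, hb] at h
  exact h.symm

theorem Setup.inter_seven (hS : Setup J S) (H : Hyp G J T 4) {g : G} (hg : g ∉ M) :
    ∃ v, v ∈ inter S g ∧ orderOf v = 7 := by
  obtain ⟨x, hxx, hgx, hx, h7⟩ := hS.fiber_seven H hg
  obtain ⟨v, hv, hvo, -⟩ := (hS.fiber H hxx hx).2 h7
  exact ⟨v, (inter_congr hgx).2 hv, hvo⟩

theorem Setup.card_sylow_seven (hS : Setup J S) (H : Hyp G J T 4) [Fact (Nat.Prime 7)] :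
    Nat.card (Sylow 7 (M : Subgroup G)) ≤ 8 := by
  have P := (default : Sylow 7 (M : Subgroup G))
  have hd := P.card_dvd_index
  have hcP : Nat.card (P : Subgroup (M : Subgroup G)) = 7 := by
    rw [P.card_eq_multiplicity, hS.card_normalizer H]
    have : Nat.factorization 168 7 = 1 := by
      rw [show (168 : ℕ) = 24 * 7 from rfl, Nat.factorization_mul (by norm_num) (by norm_num), Finsupp.add_apply,
        Nat.factorization_eq_zero_of_not_dvd (by norm_num), Nat.Prime.factorization_self (by norm_num)]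
    rw [this, pow_one]
  have hi : (P : Subgroup (M : Subgroup G)).index = 24 := by
    have := card_mul_index (P : Subgroup (M : Subgroup G))
    rw [hcP, hS.card_normalizer H] at this
    omega
  rw [hi] at hd
  exact sylow_bound _ (Nat.mem_divisors.2 ⟨hd, by norm_num⟩) (card_sylow_modEq_one 7 (M : Subgroup G))
where
  sylow_bound : ∀ n ∈ Nat.divisors 24, n % 7 = 1 % 7 → n ≤ 8 := by decide +kernel

theorem card_norm_le (hS : Setup J S) (H : Hyp G J T 4) {w : G} (hw : w ∈ M) (ho : orderOf w = 7) :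
    Nat.card (M ⊓ normalizer ((zpowers w : Subgroup G) : Set G) : Subgroup G) ≤ 21 := by
  classical
  set N := (M ⊓ normalizer ((zpowers w : Subgroup G) : Set G) : Subgroup G) with hN
  have hdisj : S ⊓ N = ⊥ := by
    refine eq_bot_iff.2 fun p hp => mem_bot.2 ?_
    by_contra hp1
    have h1 : p * w * p⁻¹ ∈ zpowers w := (mem_normalizer_iff.1 hp.2.2 w).1 (mem_zpowers w)
    have h2 : p * w * p⁻¹ * w⁻¹ ∈ S := by
      rw [show p * w * p⁻¹ * w⁻¹ = p * (w * p⁻¹ * w⁻¹) by group]
      exact mul_mem hp.1 (normalizer_conj hw (inv_mem hp.1))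
    have h3 : p * w * p⁻¹ * w⁻¹ = 1 := by
      have hh := mul_mem h1 (inv_mem (mem_zpowers w))
      have hd : Nat.gcd (Nat.card S) (Nat.card (zpowers w)) = 1 := by rw [hS.card, Nat.card_zpowers, ho]; rfl
      exact mem_bot.1 ((inf_eq_bot_of_coprime hd) ▸ (⟨h2, hh⟩ : _ ∈ S ⊓ zpowers w))
    have hpw : p * w = w * p := mul_inv_eq_iff_eq_mul.1 (mul_inv_eq_one.1 h3)
    have := orderOf_dvd_natCard (⟨w, mem_centralizer_singleton_iff.2 hpw.symm⟩ : centralizer ({p} : Set G))
    rw [orderOf_mk, ho, (H.cent_four (hS.sq p hp.1) hp1).1] at this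
    norm_num at this
  let f : S × N → M := fun q => ⟨(q.1 : G) * q.2, mul_mem (le_normalizer q.1.2) q.2.2.1⟩
  have hf : Function.Injective f := fun a b h =>
    mul_injective_of_disjoint (disjoint_iff.2 hdisj) (congrArg Subtype.val h :)
  have := Nat.card_le_card_of_injective f hf
  rw [Nat.card_prod, hS.card, hS.card_normalizer H] at this
  omega

end Cfsg.Lib.TwoTimesAlt
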