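import Cfsg.Agent.TwoTimesAlt.Fusion

/-!
The centraliser as the direct product, and normal subgroups of odd order.
-/

set_option autoImplicit false
set_option linter.unusedSectionVars false

namespace Cfsg.Lib.TwoTimesAlt

open Subgroup

universe u

variable {G : Type u} [Group G] [Finite G] {J : G} {T : Subgroup G} {m : ℕ}

theorem Hyp.equiv (H : Hyp G J T m) :
    Nonempty (centralizer ({J} : Set G) ≃* Multiplicative (ZMod 2) × alternatingGroup (Fin m)) := by
  obtain ⟨e⟩ := H.iso
  have hcyc : IsCyclic (zpowers J) := inferInstance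
  have e2 : zpowers J ≃* Multiplicative (ZMod 2) :=
    mulEquivOfCyclicCardEq (by rw [Nat.card_zpowers, H.central.1, Nat.card_eq_fintype_card, Fintype.card_multiplicative, ZMod.card])
  have hcomm : ∀ (a : zpowers J) (b : T), Commute ((zpowers J).subtype a) (T.subtype b) := fun a b =>
    H.prod.2.2.1 a a.2 b b.2
  let ψ := MonoidHom.noncommCoprod (zpowers J).subtype T.subtype hcomm
  have hrange : ψ.range = centralizer ({J} : Set G) := by
    rw [MonoidHom.noncommCoprod_range, range_subtype, range_subtype, H.prod.2.2.2.2]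
  have hinj : Function.Injective ψ := by
    refine (injective_iff_map_eq_one ψ).2 fun ⟨a, b⟩ h => ?_
    have h' : (a : G) * (b : G) = 1 := h
    have ha : (a : G) = 1 := by
      have haT : (a : G) ∈ T := by rw [eq_inv_of_mul_eq_one_left h']; exact inv_mem b.2
      have : (a : G) ∈ zpowers J ⊓ T := ⟨a.2, haT⟩
      rw [H.prod.2.2.2.1] at this
      exact mem_bot.1 this
    rw [ha, one_mul] at h'
    exact Prod.ext (Subtype.ext ha) (Subtype.ext h')
  exact ⟨(MulEquiv.subgroupCongr hrange.symm).trans ((MonoidHom.ofInjective hinj).symm.trans (e2.prodCongr e))⟩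

theorem odd_orders {N : Subgroup G} (hodd : ¬ 2 ∣ Nat.card N) {x : G} (hx : x ∈ N) (hxx : x * x = 1) : x = 1 := by
  by_contra h
  apply hodd
  have := orderOf_dvd_natCard (⟨x, hx⟩ : N)
  rwa [orderOf_mk, orderOf_eq_prime (p := 2) (by rw [pow_two, hxx]) h] at this

/-- An involution with trivial centraliser in a normal subgroup of odd order inverts it. -/
theorem inverts {N : Subgroup G} [N.Normal] (hodd : ¬ 2 ∣ Nat.card N) {x : G} (hxx : x * x = 1)
    (hfree : ∀ n ∈ N, n * x = x * n → n = 1) : ∀ n ∈ N, x * n * x = n⁻¹ := by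
  classical
  have hxi : x⁻¹ = x := inv_eq_of_mul_eq_one_left hxx
  have hconj : ∀ n ∈ N, x * n * x ∈ N := fun n hn => by
    have := ‹N.Normal›.conj_mem n hn x
    rwa [hxi] at this
  let F : N → N := fun n => ⟨(n : G)⁻¹ * (x * n * x), mul_mem (inv_mem n.2) (hconj n n.2)⟩
  have hF : Function.Injective F := by
    intro a b hab
    have h : (a : G)⁻¹ * (x * a * x) = (b : G)⁻¹ * (x * b * x) := congrArg Subtype.val hab
    apply Subtype.ext
    have hm := hfree ((b : G) * (a : G)⁻¹) (mul_mem b.2 (inv_mem a.2)) ?_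
    · exact (mul_inv_eq_one.1 hm).symm
    · have h' : (b : G) * (a : G)⁻¹ = x * b * x * (x * a * x)⁻¹ := by
        calc (b : G) * (a : G)⁻¹ = (b : G) * ((a : G)⁻¹ * (x * a * x)) * (x * a * x)⁻¹ := by group
          _ = x * b * x * (x * a * x)⁻¹ := by rw [h]; group
      calc (b : G) * (a : G)⁻¹ * x = x * b * x * (x * a * x)⁻¹ * x := by rw [← h']
        _ = x * ((b : G) * (a : G)⁻¹) * (x⁻¹ * x) := by group
        _ = x * ((b : G) * (a : G)⁻¹) := by group
  intro n hn
  obtain ⟨m, hm⟩ := (Finite.injective_iff_surjective.1 hF) ⟨n, hn⟩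
  have hm' : (m : G)⁻¹ * (x * m * x) = n := congrArg Subtype.val hm
  rw [← hm']
  calc x * ((m : G)⁻¹ * (x * m * x)) * x = x * (m : G)⁻¹ * x * m * (x * x) := by group
    _ = ((m : G)⁻¹ * (x * m * x))⁻¹ := by rw [hxx]; nth_rewrite 1 2 [← hxi]; group

end Cfsg.Lib.TwoTimesAlt
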