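import Cfsg.Agent.TwoTimesAlt.Index

/-!
The index is nine, and generators satisfying the relations of `PΓL(2, 8)`.
-/

set_option autoImplicit false
set_option linter.unusedSectionVars false

namespace Cfsg.Lib.TwoTimesAlt

open Subgroup

universe u

variable {G : Type u} [Group G] [Finite G] {J : G} {T : Subgroup G} {S : Subgroup G}

local notation "M" => Subgroup.normalizer (S : Set G)

/-- Conjugation of powers of `w`. -/
theorem conj_wpow {a w : G} {e : ℕ} (h : a * w * a⁻¹ = w ^ e) (n : ℕ) : a * w ^ n * a⁻¹ = w ^ (e * n) := by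
  rw [← conj_pow, h, pow_mul]

/-- A subgroup of order seven with many inverting involutions. -/
theorem Setup.exists_w (hS : Setup J S) (H : Hyp G J T 4) (hns : ¬ Group.IsSolvable G) :
    ∃ w x : G, w ∈ M ∧ orderOf w = 7 ∧ x * x = 1 ∧ x ∉ M ∧ w ∈ inter S x ∧
      Nat.card (Outer S) ≤ 8 * Nat.card {x : Outer S // x.1 * w * x.1 = w⁻¹} := by
  classical
  haveI : Fact (Nat.Prime 7) := ⟨by norm_num⟩
  obtain ⟨g, hg⟩ := hS.exists_notMem H hns
  obtain ⟨x₀, hx₀, -, hx₀M, -⟩ := hS.fiber_seven H hg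
  have hv : ∀ x : Outer S, ∃ v, v ∈ inter S x.1 ∧ orderOf v = 7 := fun x => hS.inter_seven H x.2.2
  choose v hv hvo using hv
  have hvM : ∀ x, v x ∈ M := fun x => (mem_inter.1 (hv x)).1
  have hcard : ∀ x, Nat.card ((zpowers (v x)).subgroupOf (M : Subgroup G)) =
      7 ^ (Nat.card (M : Subgroup G)).factorization 7 := fun x => by
    rw [Nat.card_congr (subgroupOfEquivOfLe (zpowers_le.2 (hvM x))).toEquiv, Nat.card_zpowers, hvo,
      hS.card_normalizer H, show (168 : ℕ) = 24 * 7 from rfl, Nat.factorization_mul (by norm_num) (by norm_num),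
      Finsupp.add_apply, Nat.factorization_eq_zero_of_not_dvd (by norm_num),
      Nat.Prime.factorization_self (by norm_num), zero_add, pow_one]
  let σ : Outer S → Sylow 7 (M : Subgroup G) := fun x => Sylow.ofCard _ (hcard x)
  haveI : Fintype (Sylow 7 (M : Subgroup G)) := Fintype.ofFinite _
  obtain ⟨P, hP⟩ : ∃ P, Nat.card (Outer S) ≤ 8 * Nat.card {x // σ x = P} := by
    by_contra hcon
    push Not at hcon
    have hsum : Nat.card (Outer S) = ∑ P, Nat.card {x // σ x = P} := by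
      rw [← Nat.card_congr (Equiv.sigmaFiberEquiv σ), Nat.card_sigma]
    have hlt : ∑ P, 8 * Nat.card {x // σ x = P} < ∑ _P : Sylow 7 (M : Subgroup G), Nat.card (Outer S) :=
      Finset.sum_lt_sum_of_nonempty ⟨σ ⟨x₀, hx₀, hx₀M⟩, Finset.mem_univ _⟩ fun P _ => hcon P
    rw [← Finset.mul_sum, ← hsum, Finset.sum_const, Finset.card_univ, smul_eq_mul, ← Nat.card_eq_fintype_card] at hlt
    exact absurd hlt (Nat.not_lt.2 (Nat.mul_le_mul_right _ (hS.card_sylow_seven H)))
  have hpos : 0 < Nat.card (Outer S) := Nat.card_pos_iff.2 ⟨⟨⟨x₀, hx₀, hx₀M⟩⟩, inferInstance⟩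
  obtain ⟨⟨x, hx⟩⟩ : Nonempty {x // σ x = P} := (Nat.card_pos_iff.1 (by omega)).1
  refine ⟨v x, x.1, hvM x, hvo x, x.2.1, x.2.2, hv x, hP.trans (Nat.mul_le_mul_left 8 ?_)⟩
  have hin : ∀ x' : {x // σ x = P}, x'.1.1 * v x * x'.1.1 = (v x)⁻¹ := by
    intro x'
    refine hS.inverts H x'.1.2.1 x'.1.2.2 ?_ (hvo x)
    have h := congrArg (fun Q : Sylow 7 (M : Subgroup G) => (Q : Subgroup (M : Subgroup G))) (hx.trans x'.2.symm)
    simp only [σ, Sylow.coe_ofCard] at h
    have hmem : (⟨v x, hvM x⟩ : (M : Subgroup G)) ∈ (zpowers (v x'.1)).subgroupOf (M : Subgroup G) :=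
      h ▸ (mem_subgroupOf.2 (mem_zpowers (v x)))
    exact zpowers_le.2 (hv x'.1) (mem_subgroupOf.1 hmem)
  exact Nat.card_le_card_of_injective (fun x' => ⟨x'.1, hin x'⟩)
    (fun a b h => Subtype.ext (congrArg Subtype.val h :))

/-- An element of order three normalising a subgroup of order seven. -/
theorem Setup.exists_y (hS : Setup J S) (H : Hyp G J T 4) {w : G} (hw : w ∈ M) (ho : orderOf w = 7) :
    ∃ y, y ∈ M ∧ y * w * y⁻¹ = w ^ 2 := by
  classical
  haveI : Fact (Nat.Prime 7) := ⟨by norm_num⟩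
  haveI : Fact (Nat.Prime 3) := ⟨Nat.prime_three⟩
  have h7 : w ^ 7 = 1 := by rw [← ho, pow_orderOf_eq_one]
  set N := (M ⊓ normalizer ((zpowers w : Subgroup G) : Set G) : Subgroup G) with hN
  let P : Sylow 7 (M : Subgroup G) := Sylow.ofCard ((zpowers w).subgroupOf (M : Subgroup G)) (by
    rw [Nat.card_congr (subgroupOfEquivOfLe (zpowers_le.2 hw)).toEquiv, Nat.card_zpowers, ho,
      hS.card_normalizer H, show (168 : ℕ) = 24 * 7 from rfl, Nat.factorization_mul (by norm_num) (by norm_num),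
      Finsupp.add_apply, Nat.factorization_eq_zero_of_not_dvd (by norm_num),
      Nat.Prime.factorization_self (by norm_num), zero_add, pow_one])
  have h8 := hS.card_sylow_seven H
  rw [P.card_eq_index_normalizer] at h8
  have hidx := card_mul_index (normalizer ((P : Subgroup (M : Subgroup G)) : Set (M : Subgroup G)))
  have hsub : (normalizer ((P : Subgroup (M : Subgroup G)) : Set (M : Subgroup G))) = N.subgroupOf (M : Subgroup G) := by
    ext m
    rw [mem_subgroupOf, hN, Subgroup.mem_inf, mem_normalizer_iff, mem_normalizer_iff]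
    simp only [P, Sylow.coe_ofCard, mem_subgroupOf, Subgroup.coe_mul, InvMemClass.coe_inv]
    refine ⟨fun h => ⟨m.2, fun k => ?_⟩, fun h k => h.2 k⟩
    constructor
    · intro hk
      exact (h ⟨k, zpowers_le.2 hw hk⟩).1 hk
    · intro hk
      have hkM : k ∈ M := by
        have := mul_mem (mul_mem (inv_mem m.2) (zpowers_le.2 hw hk)) m.2
        rwa [show (m : G)⁻¹ * ((m : G) * k * (m : G)⁻¹) * m = k by group] at this
      exact (h ⟨k, hkM⟩).2 hk
  rw [hsub, Nat.card_congr (subgroupOfEquivOfLe (inf_le_left : N ≤ (M : Subgroup G))).toEquiv,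
    hS.card_normalizer H] at hidx
  have h8' : (normalizer ((P : Subgroup (M : Subgroup G)) : Set (M : Subgroup G))).index ≤ 8 := h8
  rw [hsub] at h8'
  have hle := card_norm_le hS H hw ho
  rw [← hN] at hle hidx
  have h3 : 3 ∣ Nat.card N := by
    have h21 : Nat.card N = 21 := by
      rcases Nat.lt_or_ge (Nat.card N) 21 with h | h
      · have := Nat.mul_lt_mul_of_lt_of_le h h8' (by norm_num)
        omega
      · omega
    rw [h21]; norm_num
  obtain ⟨yN, hyo⟩ := exists_prime_orderOf_dvd_card' 3 h3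
  rw [← Subgroup.orderOf_coe] at hyo
  obtain ⟨y, hyM, hyN⟩ := yN
  have hy : orderOf y = 3 := hyo
  obtain ⟨e, he⟩ := Submonoid.mem_powers_iff _ _ |>.1
    (mem_powers_iff_mem_zpowers.2 ((mem_normalizer_iff.1 hyN w).1 (mem_zpowers w)))
  have he' : y * w * y⁻¹ = w ^ e := he.symm
  have hy3 : y ^ 3 = 1 := by rw [← hy, pow_orderOf_eq_one]
  have hcube : e * e * e % 7 = 1 := by
    have h : y * (y * (y * w * y⁻¹) * y⁻¹) * y⁻¹ = w ^ (e * (e * e)) := by
      rw [he', conj_wpow he', conj_wpow he']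
    rw [show y * (y * (y * w * y⁻¹) * y⁻¹) * y⁻¹ = (y * y * y) * w * (y * y * y)⁻¹ by group,
      show y * y * y = y ^ 3 by rw [pow_succ, pow_two], hy3, one_mul, inv_one, mul_one] at h
    nth_rewrite 1 [← pow_one w] at h
    have := pow_eq_pow_iff_modEq.1 h
    rw [ho, ← mul_assoc] at this
    exact this.symm
  have hne1 : e % 7 ≠ 1 := by
    intro h
    have hc : y * w = w * y := by
      refine mul_inv_eq_iff_eq_mul.1 ?_
      rw [he', pow_eq_pow_mod _ h7, h, pow_one]
    have hyz := hS.cent_seven H hw ho hyM hc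
    have := orderOf_dvd_natCard (⟨y, hyz⟩ : zpowers w)
    rw [orderOf_mk, hy, Nat.card_zpowers, ho] at this
    norm_num at this
  have key : ∀ a : Fin 7, a.val * a.val * a.val % 7 = 1 → a.val ≠ 1 → a.val = 2 ∨ a.val = 4 := by decide
  rcases key ⟨e % 7, Nat.mod_lt _ (by norm_num)⟩ (by
    show (e % 7) * (e % 7) * (e % 7) % 7 = 1
    rw [← hcube, Nat.mul_mod, Nat.mul_mod (e % 7), Nat.mod_mod, ← Nat.mul_mod e, ← Nat.mul_mod]) hne1 with h | h
  · exact ⟨y, hyM, by rw [he', pow_eq_pow_mod _ h7, show e % 7 = 2 from h]⟩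
  · refine ⟨y⁻¹, inv_mem hyM, ?_⟩
    have e4 : y * w * y⁻¹ = w ^ 4 := by rw [he', pow_eq_pow_mod _ h7, show e % 7 = 4 from h]
    have e8 : y * w ^ 2 * y⁻¹ = w := by
      rw [conj_wpow e4, pow_eq_pow_mod _ h7]
      exact pow_one w
    rw [inv_inv]
    calc y⁻¹ * w * y = y⁻¹ * (y * w ^ 2 * y⁻¹) * y := by rw [e8]
      _ = w ^ 2 := by group

theorem act_injective : ∀ (a a' : Fin 2) (b b' : Fin 3),
    (6 ^ a.val * 2 ^ b.val) % 7 = (6 ^ a'.val * 2 ^ b'.val) % 7 → a = a' ∧ b = b' := by decide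

theorem conj_pow_gen {a w : G} {e : ℕ} (h : a * w * a⁻¹ = w ^ e) (n : ℕ) :
    a ^ n * w * (a ^ n)⁻¹ = w ^ (e ^ n) := by
  induction n with
  | zero => simp
  | succ n ih =>
    rw [pow_succ' a n, show a * a ^ n * w * (a * a ^ n)⁻¹ = a * (a ^ n * w * (a ^ n)⁻¹) * a⁻¹ by group, ih,
      conj_wpow h, pow_succ' e n]

/-- The normaliser of a subgroup of order seven. -/
theorem Setup.six_mul (hS : Setup J S) (H : Hyp G J T 4) {w x y : G} (hw : w ∈ M) (ho : orderOf w = 7)
    (hxw : x * w * x = w⁻¹) (hxx : x * x = 1) (hyw : y * w * y⁻¹ = w ^ 2) :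
    6 * Nat.card (centralizer ({w} : Set G)) ≤ Nat.card (normalizer ((zpowers w : Subgroup G) : Set G)) := by
  classical
  have h7 : w ^ 7 = 1 := by rw [← ho, pow_orderOf_eq_one]
  have hxw6 : x * w * x⁻¹ = w ^ 6 := by
    rw [inv_eq_of_mul_eq_one_left hxx, hxw]
    exact inv_eq_of_mul_eq_one_left (by rw [← pow_succ, h7])
  have hnorm : ∀ {g : G} {e : ℕ}, g * w * g⁻¹ = w ^ e → g ∈ normalizer ((zpowers w : Subgroup G) : Set G) := by
    intro g e hg
    have h1 : ∀ k ∈ zpowers w, g * k * g⁻¹ ∈ zpowers w := by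
      intro k hk
      obtain ⟨n, rfl⟩ := mem_zpowers_iff.1 hk
      rw [← conj_zpow, hg]
      exact zpow_mem (pow_mem (mem_zpowers w) e) n
    refine mem_normalizer_iff.2 fun k => ⟨h1 k, fun hk => ?_⟩
    let f : zpowers w → zpowers w := fun q => ⟨g * (q : G) * g⁻¹, h1 q q.2⟩
    have hf : Function.Injective f := fun a b h => Subtype.ext ((MulAut.conj g).injective (congrArg Subtype.val h :))
    obtain ⟨q, hq⟩ := (Finite.injective_iff_surjective.1 hf) ⟨g * k * g⁻¹, hk⟩
    have : (q : G) = k := (MulAut.conj g).injective (congrArg Subtype.val hq :)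
    exact this ▸ q.2
  have hact : ∀ (a : Fin 2) (b : Fin 3) (c : centralizer ({w} : Set G)),
      x ^ a.val * y ^ b.val * (c : G) * w * (x ^ a.val * y ^ b.val * (c : G))⁻¹ = w ^ (6 ^ a.val * 2 ^ b.val) := by
    intro a b c
    rw [mul_assoc (x ^ a.val * y ^ b.val) (c : G) w, mem_centralizer_singleton_iff.1 c.2,
      show x ^ a.val * y ^ b.val * (w * (c : G)) * (x ^ a.val * y ^ b.val * (c : G))⁻¹ =
        x ^ a.val * (y ^ b.val * w * (y ^ b.val)⁻¹) * (x ^ a.val)⁻¹ by group,
      conj_pow_gen hyw, ← conj_pow, conj_pow_gen hxw6, ← pow_mul]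
  let f : Fin 2 × Fin 3 × centralizer ({w} : Set G) → normalizer ((zpowers w : Subgroup G) : Set G) := fun q =>
    ⟨x ^ q.1.val * y ^ q.2.1.val * (q.2.2 : G), hnorm (hact q.1 q.2.1 q.2.2)⟩
  have hf : Function.Injective f := by
    rintro ⟨a, b, c⟩ ⟨a', b', c'⟩ h
    have h' : x ^ a.val * y ^ b.val * (c : G) = x ^ a'.val * y ^ b'.val * (c' : G) := congrArg Subtype.val h
    have hp := hact a b c
    rw [h', hact a' b' c'] at hp
    have hm := pow_eq_pow_iff_modEq.1 hp
    rw [ho] at hm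
    obtain ⟨rfl, rfl⟩ := act_injective a a' b b' hm.symm
    rw [Subtype.ext (mul_left_cancel h') (a1 := c) (a2 := c')]
  have := Nat.card_le_card_of_injective f hf
  rw [Nat.card_prod, Nat.card_prod, Nat.card_eq_fintype_card (α := Fin 2), Nat.card_eq_fintype_card (α := Fin 3),
    Fintype.card_fin, Fintype.card_fin] at this
  omega

/-- `M` and one double coset. -/
theorem Setup.shape (hS : Setup J S) (H : Hyp G J T 4) (hns : ¬ Group.IsSolvable G) :
    ∃ w x y : G, w ∈ M ∧ orderOf w = 7 ∧ x * x = 1 ∧ x ∉ M ∧ x * w * x = w⁻¹ ∧ y ∈ inter S x ∧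
      y * w * y⁻¹ = w ^ 2 ∧ w ∈ inter S x ∧ (∀ c : G, c * w = w * c → c ∈ zpowers w) ∧ Nat.card G = 1512 ∧
      (∀ g, g ∉ M → ∃ p ∈ S, g⁻¹ * (p * x) ∈ M) := by
  classical
  obtain ⟨w, x, hw, ho, hxx, hx, hwx, hout⟩ := hS.exists_w H hns
  have hxw := hS.inverts H hxx hx hwx ho
  obtain ⟨y, hy, hyw⟩ := hS.exists_y H hw ho
  have hsix := hS.six_mul H hw ho hxw hxx hyw
  set N := normalizer ((zpowers w : Subgroup G) : Set G) with hN
  set In := {x' : Outer S // x'.1 * w * x'.1 = w⁻¹} with hIn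
  -- inverting involutions
  have hxi : x⁻¹ = x := inv_eq_of_mul_eq_one_left hxx
  have hn : Nat.card In ≤ Nat.card (centralizer ({w} : Set G)) := by
    refine Nat.card_le_card_of_injective (fun x' => ⟨x * x'.1.1, mem_centralizer_singleton_iff.2 ?_⟩)
      (fun a b h => Subtype.ext (Subtype.ext (mul_left_cancel (congrArg Subtype.val h :))))
    have h := congrArg (fun z => x * z⁻¹ * x) x'.2
    simp only [inv_inv, mul_inv_rev, inv_eq_of_mul_eq_one_left x'.1.2.1] at h
    calc x * x'.1.1 * w = x * (x'.1.1 * w * x'.1.1) * (x'.1.1) := by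
          rw [show x * (x'.1.1 * w * x'.1.1) * x'.1.1 = x * x'.1.1 * w * (x'.1.1 * x'.1.1) by group, x'.1.2.1, mul_one]
      _ = (x * w⁻¹ * x) * (x * x'.1.1) := by
          rw [x'.2]
          calc x * w⁻¹ * x'.1.1 = x * w⁻¹ * (x * x) * x'.1.1 := by rw [hxx, mul_one]
            _ = _ := by group
      _ = w * (x * x'.1.1) := by
          rw [show x * w⁻¹ * x = w by rw [← hxw, show x * (x * w * x) * x = x * x * w * (x * x) by group, hxx,
            one_mul, mul_one]]
  -- cosets met by the normaliser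
  let R := {q : G ⧸ (M : Subgroup G) // q ≠ QuotientGroup.mk 1 ∧ ∃ g ∈ N, QuotientGroup.mk g = q}
  have hR : ∀ q : R, ∃ x₁ : G, x₁ * x₁ = 1 ∧ x₁ ∉ M ∧ (QuotientGroup.mk x₁ : G ⧸ (M : Subgroup G)) = q.1 ∧
      Nat.card (Fiber S x₁) = 7 ∧ ∀ x' : Fiber S x₁, x'.1 ∉ M ∧ x'.1 * w * x'.1 = w⁻¹ ∧
        (QuotientGroup.mk x'.1 : G ⧸ (M : Subgroup G)) = q.1 := by
    rintro ⟨q, hq, g, hg, rfl⟩
    have hgM : g ∉ M := fun h => hq (QuotientGroup.eq.2 (by rw [mul_one]; exact inv_mem h))
    obtain ⟨x₁, hx₁, hgx, hx₁M, h7⟩ := hS.fiber_seven H hgM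
    refine ⟨x₁, hx₁, hx₁M, QuotientGroup.eq.2 (by rw [← inv_mem_iff, mul_inv_rev, inv_inv]; exact hgx), h7,
      fun x' => ?_⟩
    have hgx' : g⁻¹ * x'.1 ∈ M := by
      have := mul_mem hgx x'.2.2
      rwa [show g⁻¹ * x₁ * (x₁ * x'.1) = g⁻¹ * (x₁ * x₁) * x'.1 by group, hx₁, mul_one] at this
    have hx'M : x'.1 ∉ M := fun h => hgM (by
      have := mul_mem h (inv_mem hgx')
      rwa [mul_inv_rev, inv_inv, ← mul_assoc, mul_inv_cancel, one_mul] at this)
    refine ⟨hx'M, hS.inverts H x'.2.1 hx'M ((inter_congr hgx').1 (mem_inter.2 ⟨hw, ?_⟩)) ho,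
      QuotientGroup.eq.2 (by rw [← inv_mem_iff, mul_inv_rev, inv_inv]; exact hgx')⟩
    have := (mem_normalizer_iff.1 (inv_mem hg) w).1 (mem_zpowers w)
    rw [inv_inv] at this
    exact zpowers_le.2 hw this
  choose x₁ hx₁ hx₁M hx₁q hx₁7 hx₁' using hR
  have hRn : 7 * Nat.card R ≤ Nat.card In := by
    let f : (Σ q : R, Fiber S (x₁ q)) → In := fun a => ⟨⟨a.2.1, a.2.2.1, (hx₁' a.1 a.2).1⟩, (hx₁' a.1 a.2).2.1⟩
    have hf : Function.Injective f := by
      rintro ⟨q, a⟩ ⟨q', b⟩ h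
      have h' : a.1 = b.1 := congrArg (fun z : In => z.1.1) h
      obtain rfl : q = q' := Subtype.ext (by rw [← (hx₁' q a).2.2, h', (hx₁' q' b).2.2])
      rw [Subtype.ext h']
    haveI : Fintype R := Fintype.ofFinite R
    have := Nat.card_le_card_of_injective f hf
    rw [Nat.card_sigma, Finset.sum_congr rfl (fun q _ => hx₁7 q), Finset.sum_const, Finset.card_univ, smul_eq_mul,
      ← Nat.card_eq_fintype_card] at this
    omega
  have hNR : Nat.card N ≤ 21 * (Nat.card R + 1) := by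
    let π : N → Option R := fun g =>
      if h : (QuotientGroup.mk (g : G) : G ⧸ (M : Subgroup G)) = QuotientGroup.mk 1 then none
      else some ⟨QuotientGroup.mk (g : G), h, g, g.2, rfl⟩
    haveI : Fintype (Option R) := Fintype.ofFinite _
    rw [← Nat.card_congr (Equiv.sigmaFiberEquiv π), Nat.card_sigma,
      ← Finite.card_option, Nat.card_eq_fintype_card (α := Option R)]
    refine le_of_le_of_eq (Finset.sum_le_card_nsmul _ _ 21 fun o _ => ?_) (by rw [Finset.card_univ, smul_eq_mul, mul_comm])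
    rcases isEmpty_or_nonempty {g // π g = o} with h | ⟨⟨g₀⟩⟩
    · simp
    refine le_trans (Nat.card_le_card_of_injective (fun g => (⟨((g₀.1 : G))⁻¹ * g.1, ?_, ?_⟩ :
      (M ⊓ N : Subgroup G))) ?_) (card_norm_le hS H hw ho)
    · have h := g₀.2.trans g.2.symm
      simp only [π] at h
      split_ifs at h with h1 h2 h2
      · exact QuotientGroup.eq.1 (h1.trans h2.symm)
      · exact QuotientGroup.eq.1 (congrArg Subtype.val (Option.some.inj h))
    · exact N.mul_mem (N.inv_mem g₀.1.2) g.1.2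
    · intro a b h
      exact Subtype.ext (Subtype.ext (mul_left_cancel (congrArg Subtype.val h :)))
  -- `S` is semiregular on the other cosets
  have hreg : ∀ p q : S, (QuotientGroup.mk ((p : G) * x) : G ⧸ (M : Subgroup G)) = QuotientGroup.mk ((q : G) * x) →
      p = q := by
    intro p q h
    have hm := QuotientGroup.eq.1 h
    rw [show ((p : G) * x)⁻¹ * ((q : G) * x) = x⁻¹ * ((p : G)⁻¹ * q) * x by group] at hm
    have := hS.embedded hx (le_normalizer (mul_mem (inv_mem p.2) q.2)) hm (hS.sq _ (mul_mem (inv_mem p.2) q.2))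
    exact Subtype.ext (inv_mul_eq_one.1 this)
  have hone : ∀ p : S, (QuotientGroup.mk ((p : G) * x) : G ⧸ (M : Subgroup G)) ≠ QuotientGroup.mk 1 := by
    intro p h
    have hm := QuotientGroup.eq.1 h
    rw [mul_one, inv_mem_iff] at hm
    refine hx ?_
    have := mul_mem (inv_mem (le_normalizer p.2)) hm
    rwa [inv_mul_cancel_left] at this
  let φ : Option S → G ⧸ (M : Subgroup G) := fun o => o.elim (QuotientGroup.mk 1) (fun p => QuotientGroup.mk ((p : G) * x))
  have hφ : Function.Injective φ := by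
    rintro (_ | p) (_ | q) h
    · rfl
    · exact absurd h.symm (hone q)
    · exact absurd h (hone p)
    · exact congrArg some (hreg p q h)
  have h9 := Nat.card_le_card_of_injective φ hφ
  rw [Finite.card_option, hS.card, ← Subgroup.index_eq_card] at h9
  have hCpos : 7 ≤ Nat.card (centralizer ({w} : Set G)) := by
    have hle : zpowers w ≤ centralizer ({w} : Set G) := zpowers_le.2 (mem_centralizer_singleton_iff.2 rfl)
    have := Nat.le_of_dvd Nat.card_pos (card_dvd_of_le hle)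
    rwa [Nat.card_zpowers, ho] at this
  have hcount := hS.card_outer H
  have hC7 : Nat.card (centralizer ({w} : Set G)) = 7 := by omega
  have hk : (M : Subgroup G).index = 9 := by omega
  have hcent : ∀ c : G, c * w = w * c → c ∈ zpowers w := by
    intro c hc
    have heq : zpowers w = centralizer ({w} : Set G) :=
      eq_of_le_of_card_ge (zpowers_le.2 (mem_centralizer_singleton_iff.2 rfl)) (by rw [hC7, Nat.card_zpowers, ho])
    rw [heq]
    exact mem_centralizer_singleton_iff.2 hc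
  have hbij : Function.Bijective φ := hφ.bijective_of_nat_card_le (by
    rw [Finite.card_option, hS.card, ← Subgroup.index_eq_card, hk])
  refine ⟨w, x, y, hw, ho, hxx, hx, hxw, mem_inter.2 ⟨hy, ?_⟩, hyw, hwx, hcent, ?_, fun g hg => ?_⟩
  · -- `y` fixes the coset of `x`
    have hnorm : ∀ a : G, (∃ e : ℕ, a * w * a⁻¹ = w ^ e ∧ ∃ e' : ℕ, a⁻¹ * w * a = w ^ e') → a ∈ N := by
      rintro a ⟨e, he, e', he'⟩
      refine mem_normalizer_iff.2 fun k => ⟨fun hk => ?_, fun hk => ?_⟩
      · obtain ⟨n, rfl⟩ := mem_zpowers_iff.1 hk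
        rw [← conj_zpow, he]
        exact zpow_mem (pow_mem (mem_zpowers w) e) n
      · obtain ⟨n, hn⟩ := mem_zpowers_iff.1 hk
        rw [show k = a⁻¹ * (a * k * a⁻¹) * a by group, ← hn]
        have := conj_zpow (i := n) (a := a⁻¹) (b := w)
        rw [inv_inv, he'] at this
        rw [← this]
        exact zpow_mem (pow_mem (mem_zpowers w) e') n
    have h7 : w ^ 7 = 1 := by rw [← ho, pow_orderOf_eq_one]
    have hw6 : w ^ 6 = w⁻¹ := eq_inv_of_mul_eq_one_left (by rw [← pow_succ, h7])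
    have hxN : x ∈ N := hnorm x ⟨6, by rw [hxi, hxw, hw6], 6, by rw [hxi, hxw, hw6]⟩
    have hyN : y ∈ N := hnorm y ⟨2, hyw, 4, by
      have e8 : y * w ^ 4 * y⁻¹ = w := by
        rw [conj_wpow hyw, pow_eq_pow_mod _ h7]; exact pow_one w
      calc y⁻¹ * w * y = y⁻¹ * (y * w ^ 4 * y⁻¹) * y := by rw [e8]
        _ = w ^ 4 := by group⟩
    have hyx : y * x ∉ M := fun h => hx (by
      have := mul_mem (inv_mem hy) h
      rwa [inv_mul_cancel_left] at this)
    let q₁ : R := ⟨QuotientGroup.mk x, fun h => hx (by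
      have := QuotientGroup.eq.1 h
      rwa [mul_one, inv_mem_iff] at this), x, hxN, rfl⟩
    let q₂ : R := ⟨QuotientGroup.mk (y * x), fun h => hyx (by
      have := QuotientGroup.eq.1 h
      rwa [mul_one, inv_mem_iff] at this), y * x, mul_mem hyN hxN, rfl⟩
    have : Subsingleton R := (Finite.card_le_one_iff_subsingleton).1 (by omega)
    have := QuotientGroup.eq.1 (congrArg Subtype.val (Subsingleton.elim q₁ q₂))
    rwa [← mul_assoc] at this
  · have := card_mul_index (M : Subgroup G)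
    rw [hS.card_normalizer H, hk] at this
    omega
  · obtain ⟨_ | p, hp⟩ := hbij.2 (QuotientGroup.mk g)
    · exact absurd (by
        have := QuotientGroup.eq.1 hp
        rwa [inv_one, one_mul] at this) hg
    · exact ⟨p, p.2, QuotientGroup.eq.1 hp.symm⟩

end Cfsg.Lib.TwoTimesAlt
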