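import Mathlib

/-!
An involution of an alternating group of degree at least six is a product of commutators in its centraliser.
-/

set_option autoImplicit false

namespace Cfsg.Lib.TwoTimesAlt

open Equiv Equiv.Perm

variable {α : Type*} [DecidableEq α] [Fintype α]

/-- The commutators of even permutations commuting with a given one. -/
def centComm (x : Perm α) : Set (Perm α) :=
  {z | ∃ p q, sign p = 1 ∧ sign q = 1 ∧ p * x = x * p ∧ q * x = x * q ∧ p * q * p⁻¹ * q⁻¹ = z}

theorem swap_comm_of (x : Perm α) {a b : α} (h : (x a = b ∧ x b = a) ∨ (x a = a ∧ x b = b)) :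
    swap a b * x = x * swap a b := by
  refine (mul_inv_eq_iff_eq_mul.1 ?_).symm
  rw [← swap_apply_apply]
  rcases h with ⟨h1, h2⟩ | ⟨h1, h2⟩ <;> rw [h1, h2]
  exact swap_comm b a

theorem pair_mem (hα : 6 ≤ Fintype.card α) (x : Perm α) (hx : x * x = 1) {a c : α} (ha : x a ≠ a) (hc : x c ≠ c)
    (hca : c ≠ a) (hcb : c ≠ x a) : swap a (x a) * swap c (x c) ∈ centComm x := by
  have hxx : ∀ i, x (x i) = i := fun i => by rw [← Perm.mul_apply, hx, Perm.one_apply]
  obtain ⟨b, hb⟩ : ∃ b, b = x a := ⟨_, rfl⟩
  obtain ⟨d, hd⟩ : ∃ d, d = x c := ⟨_, rfl⟩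
  rw [← hb, ← hd]
  rw [← hb] at ha hcb
  rw [← hd] at hc
  have hxb : x b = a := by rw [hb, hxx]
  have hxd : x d = c := by rw [hd, hxx]
  have hbd : b ≠ d := fun h => hca.symm (by rw [← hxb, ← hxd, h])
  have had : a ≠ d := fun h => hcb (by rw [← hxd, ← h, ← hb])
  -- two further points
  obtain ⟨e, f, hef, he, hf, hxef⟩ : ∃ e f, e ≠ f ∧ e ∉ ({a, b, c, d} : Finset α) ∧ f ∉ ({a, b, c, d} : Finset α) ∧
      ((x e = f ∧ x f = e) ∨ (x e = e ∧ x f = f)) := by
    by_cases hm : ∃ e, e ∉ ({a, b, c, d} : Finset α) ∧ x e ≠ e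
    · obtain ⟨e, he, hxe⟩ := hm
      refine ⟨e, x e, fun h => hxe h.symm, he, ?_, Or.inl ⟨rfl, hxx e⟩⟩
      simp only [Finset.mem_insert, Finset.mem_singleton, not_or] at he ⊢
      exact ⟨fun h => he.2.1 (by rw [hb, ← h, hxx]), fun h => he.1 (by rw [← hxb, ← h, hxx]),
        fun h => he.2.2.2 (by rw [hd, ← h, hxx]), fun h => he.2.2.1 (by rw [← hxd, ← h, hxx])⟩
    · push Not at hm
      have h2 : 1 < (Finset.univ \ ({a, b, c, d} : Finset α)).card := by
        rw [Finset.card_sdiff_of_subset (Finset.subset_univ _), Finset.card_univ]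
        have := (Finset.card_le_four (a := a) (b := b) (c := c) (d := d))
        omega
      obtain ⟨e, he, f, hf, hef⟩ := Finset.one_lt_card.1 h2
      simp only [Finset.mem_sdiff, Finset.mem_univ, true_and] at he hf
      exact ⟨e, f, hef, he, hf, Or.inr ⟨hm e he, hm f hf⟩⟩
  simp only [Finset.mem_insert, Finset.mem_singleton, not_or] at he hf
  refine ⟨swap a b * swap e f, swap a c * swap b d, ?_, ?_, ?_, ?_, ?_⟩
  · rw [map_mul, sign_swap (Ne.symm ha), sign_swap hef]; rfl
  · rw [map_mul, sign_swap (Ne.symm hca), sign_swap hbd]; rfl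
  · rw [mul_assoc, swap_comm_of x hxef, ← mul_assoc, swap_comm_of x (Or.inl ⟨hb.symm, hxb⟩), mul_assoc]
  · refine (mul_inv_eq_iff_eq_mul.1 ?_).symm
    calc x * (swap a c * swap b d) * x⁻¹ = x * swap a c * x⁻¹ * (x * swap b d * x⁻¹) := by group
      _ = swap a c * swap b d := by
        rw [← swap_apply_apply, ← swap_apply_apply, ← hb, ← hd, hxb, hxd]
        exact (Equiv.Perm.Disjoint.commute (disjoint_swap_swap (by
          simp only [List.nodup_cons, List.mem_cons, List.not_mem_nil, or_false, not_or, List.nodup_nil, and_true,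
            not_false_iff]
          exact ⟨⟨hbd, ha, hcb.symm⟩, ⟨had.symm, hc⟩, hca.symm⟩))).eq
  · set q := swap a c * swap b d with hq
    have q1 : q a = c := by
      rw [hq, Perm.mul_apply, swap_apply_of_ne_of_ne (Ne.symm ha) had, swap_apply_left]
    have q2 : q b = d := by
      rw [hq, Perm.mul_apply, swap_apply_left, swap_apply_of_ne_of_ne had.symm hc]
    have q3 : q e = e := by
      rw [hq, Perm.mul_apply, swap_apply_of_ne_of_ne he.2.1 he.2.2.2, swap_apply_of_ne_of_ne he.1 he.2.2.1]
    have q4 : q f = f := by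
      rw [hq, Perm.mul_apply, swap_apply_of_ne_of_ne hf.2.1 hf.2.2.2, swap_apply_of_ne_of_ne hf.1 hf.2.2.1]
    have e1 : q * swap e f * q⁻¹ = swap e f := by rw [← swap_apply_apply, q3, q4]
    have e2 : q * swap a b * q⁻¹ = swap c d := by rw [← swap_apply_apply, q1, q2]
    calc swap a b * swap e f * q * (swap a b * swap e f)⁻¹ * q⁻¹
        = swap a b * swap e f * (q * swap e f * q⁻¹) * (q * swap a b * q⁻¹) := by
          rw [mul_inv_rev, swap_inv, swap_inv]; group
      _ = swap a b * (swap e f * swap e f) * swap c d := by rw [e1, e2]; group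
      _ = swap a b * swap c d := by rw [swap_mul_self, mul_one]

theorem mem_closure_centComm (hα : 6 ≤ Fintype.card α) (x : Perm α) (hx : x * x = 1) :
    ∀ y : Perm α, sign y = 1 → (∀ i, y i ≠ i → y i = x i) → y * y = 1 → y ∈ Subgroup.closure (centComm x) := by
  intro y
  induction hn : y.support.card using Nat.strong_induction_on generalizing y with
  | _ n ih =>
    intro hs hyx hyy
    by_cases h1 : y = 1
    · rw [h1]; exact one_mem _
    have hyy' : ∀ i, y (y i) = i := fun i => by rw [← Perm.mul_apply, hyy, Perm.one_apply]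
    obtain ⟨a, ha⟩ : ∃ a, y a ≠ a := by
      by_contra h; push Not at h; exact h1 (Perm.ext h)
    obtain ⟨c, hc, hca, hcb⟩ : ∃ c, y c ≠ c ∧ c ≠ a ∧ c ≠ y a := by
      by_contra h; push Not at h
      have hy : y = swap a (y a) := by
        refine Perm.ext fun i => ?_
        by_cases hia : i = a
        · rw [hia, swap_apply_left]
        by_cases hib : i = y a
        · rw [hib, swap_apply_right, hyy']
        rw [swap_apply_of_ne_of_ne hia hib]
        by_contra hi
        exact hib (h i hi hia)
      rw [hy, sign_swap (Ne.symm ha)] at hs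
      exact absurd hs (by decide)
    have hxa := hyx a ha
    have hxc := hyx c hc
    have hm : swap a (y a) * swap c (y c) ∈ centComm x := by
      rw [hxa, hxc]
      exact pair_mem hα x hx (hxa ▸ ha) (hxc ▸ hc) hca (hxa ▸ hcb)
    set π := swap a (y a) * swap c (y c) with hπ
    have hd1 : y c ≠ a := fun h => hcb (by rw [← h, hyy'])
    have hd2 : y c ≠ y a := fun h => hca (y.injective h)
    have hπa : π a = y a := by
      rw [hπ, Perm.mul_apply, swap_apply_of_ne_of_ne hca.symm hd1.symm, swap_apply_left]
    have hπb : π (y a) = a := by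
      rw [hπ, Perm.mul_apply, swap_apply_of_ne_of_ne hcb.symm hd2.symm, swap_apply_right]
    have hπc : π c = y c := by
      rw [hπ, Perm.mul_apply, swap_apply_left, swap_apply_of_ne_of_ne hd1 hd2]
    have hπd : π (y c) = c := by
      rw [hπ, Perm.mul_apply, swap_apply_right, swap_apply_of_ne_of_ne hca hcb]
    have key : ∀ i, (π * y) i = if i = a ∨ i = y a ∨ i = c ∨ i = y c then i else y i := by
      intro i
      rw [Perm.mul_apply]
      split_ifs with h
      · rcases h with rfl | rfl | rfl | rfl
        · exact hπb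
        · rw [hyy']; exact hπa
        · exact hπd
        · rw [hyy']; exact hπc
      · simp only [not_or] at h
        have e1 : y i ≠ a := fun e => h.2.1 (by rw [← e, hyy'])
        have e2 : y i ≠ y a := fun e => h.1 (y.injective e)
        have e3 : y i ≠ c := fun e => h.2.2.2 (by rw [← e, hyy'])
        have e4 : y i ≠ y c := fun e => h.2.2.1 (y.injective e)
        rw [hπ, Perm.mul_apply, swap_apply_of_ne_of_ne e3 e4, swap_apply_of_ne_of_ne e1 e2]
    have hsub : (π * y).support ⊆ y.support.erase a := by
      intro i hi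
      rw [Perm.mem_support, key] at hi
      split_ifs at hi with h
      · exact absurd rfl hi
      · simp only [not_or] at h
        exact Finset.mem_erase.2 ⟨h.1, Perm.mem_support.2 hi⟩
    have hlt : (π * y).support.card < n := by
      rw [← hn]
      exact (Finset.card_le_card hsub).trans_lt (Finset.card_erase_lt_of_mem (Perm.mem_support.2 ha))
    have hrec : π * y ∈ Subgroup.closure (centComm x) := by
      refine ih _ hlt (π * y) rfl ?_ (fun i hi => ?_) ?_
      · rw [map_mul, hs, hπ, map_mul, sign_swap (Ne.symm ha), sign_swap (Ne.symm hc)]; rfl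
      · rw [key] at hi ⊢
        split_ifs at hi ⊢ with h
        · exact absurd rfl hi
        · exact hyx i hi
      · refine Perm.ext fun i => ?_
        rw [Perm.mul_apply, key i, Perm.one_apply]
        split_ifs with h
        · rw [key, if_pos h]
        · rw [key, if_neg ?_, hyy']
          rintro (e | e | e | e)
          · exact h (Or.inr (Or.inl (by rw [← e, hyy'])))
          · exact h (Or.inl (y.injective e))
          · exact h (Or.inr (Or.inr (Or.inr (by rw [← e, hyy']))))
          · exact h (Or.inr (Or.inr (Or.inl (y.injective e))))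
    have := mul_mem (inv_mem (Subgroup.subset_closure hm)) hrec
    rwa [inv_mul_cancel_left] at this

end Cfsg.Lib.TwoTimesAlt
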