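import Cfsg.Agent.TwoTimesAlt.Four

/-!
Elements of order seven in the strongly embedded subgroup, and involutions in its cosets.
-/

set_option autoImplicit false
set_option linter.unusedSectionVars false

namespace Cfsg.Lib.TwoTimesAlt

open Subgroup

universe u

variable {G : Type u} [Group G] [Finite G] {J : G} {T : Subgroup G} {S : Subgroup G}

local notation "M" => Subgroup.normalizer (S : Set G)

theorem seven_of_divisor : ∀ n ∈ Nat.divisors 168, 7 ∣ n → ¬ 2 ∣ n → ¬ 3 ∣ n → n = 7 := by decide +kernel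

theorem twentyone_of_divisor : ∀ n ∈ Nat.divisors 168, ¬ 2 ∣ n → n ∣ 21 := by decide +kernel

theorem pow_val_add {v : G} (hv : v ^ 7 = 1) (i j : ZMod 7) : v ^ (i + j).val = v ^ i.val * v ^ j.val := by
  rw [ZMod.val_add, ← pow_add, ← pow_eq_pow_mod _ hv]

theorem eq_one_of_seven {v : G} {a : ZMod 7} (ha : a ≠ 0) (hv7 : v ^ 7 = 1) : ∃ b : ℕ, (v ^ a.val) ^ b = v := by
  obtain ⟨b, hb⟩ : ∃ b : ZMod 7, a * b = 1 := by
    revert ha; revert a; decide
  refine ⟨b.val, ?_⟩
  rw [← pow_mul, pow_eq_pow_mod _ hv7, ← ZMod.val_mul, hb]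
  exact pow_one v

/-- Elements of order seven permute the involutions of `S` regularly. -/
theorem Setup.orbit (hS : Setup J S) (H : Hyp G J T 4) {v : G} (hv : v ∈ M) (ho : orderOf v = 7) {p : G}
    (hp : p ∈ S) (hp1 : p ≠ 1) :
    Function.Bijective (fun i : ZMod 7 => (⟨v ^ i.val * p * (v ^ i.val)⁻¹,
      normalizer_conj (pow_mem hv _) hp, conj_ne_one _ hp1⟩ : {x : G // x ∈ S ∧ x ≠ 1})) := by
  classical
  have h7 : v ^ 7 = 1 := by rw [← ho, pow_orderOf_eq_one]
  have hv24 : v ∉ centralizer ({p} : Set G) := fun h => by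
    have := orderOf_dvd_natCard (⟨v, h⟩ : centralizer ({p} : Set G))
    rw [orderOf_mk, ho, (H.cent_four (hS.sq p hp) hp1).1] at this
    norm_num at this
  have hinj : Function.Injective (fun i : ZMod 7 => (⟨v ^ i.val * p * (v ^ i.val)⁻¹,
      normalizer_conj (pow_mem hv _) hp, conj_ne_one _ hp1⟩ : {x : G // x ∈ S ∧ x ≠ 1})) := by
    intro i j h
    have h' : v ^ i.val * p * (v ^ i.val)⁻¹ = v ^ j.val * p * (v ^ j.val)⁻¹ := congrArg Subtype.val h
    by_contra hne
    have hc : v ^ (j - i).val ∈ centralizer ({p} : Set G) := by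
      have he : v ^ j.val = v ^ i.val * v ^ (j - i).val := by rw [← pow_val_add h7, add_sub_cancel]
      rw [mem_centralizer_singleton_iff]
      calc v ^ (j - i).val * p = (v ^ i.val)⁻¹ * (v ^ j.val * p * (v ^ j.val)⁻¹) * v ^ j.val := by
            rw [he]; group
        _ = (v ^ i.val)⁻¹ * (v ^ i.val * p * (v ^ i.val)⁻¹) * v ^ j.val := by rw [h']
        _ = _ := by rw [he]; group
    obtain ⟨b, hb⟩ := eq_one_of_seven (v := v) (sub_ne_zero.2 (Ne.symm hne)) h7
    exact hv24 (hb ▸ pow_mem hc b)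
  refine hinj.bijective_of_nat_card_le ?_
  let e : {x : G // x ∈ S ∧ x ≠ 1} ≃ {x : S // x ≠ 1} :=
    ⟨fun x => ⟨⟨x.1, x.2.1⟩, fun h => x.2.2 (congrArg Subtype.val h)⟩,
      fun x => ⟨x.1.1, x.1.2, fun h => x.2 (Subtype.ext h)⟩, fun _ => rfl, fun _ => rfl⟩
  have : Fintype S := Fintype.ofFinite S
  rw [Nat.card_zmod, Nat.card_congr e, Nat.card_eq_fintype_card, Fintype.card_subtype_compl, Fintype.card_subtype_eq,
    ← Nat.card_eq_fintype_card, hS.card]

theorem Setup.conj_eq (hS : Setup J S) (H : Hyp G J T 4) {v : G} (hv : v ∈ M) (ho : orderOf v = 7) {p q : G}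
    (hp : p ∈ S) (hp1 : p ≠ 1) (hq : q ∈ S) (hq1 : q ≠ 1) : ∃ i : ZMod 7, v ^ i.val * p * (v ^ i.val)⁻¹ = q := by
  obtain ⟨i, hi⟩ := (hS.orbit H hv ho hp hp1).2 ⟨q, hq, hq1⟩
  exact ⟨i, congrArg Subtype.val hi⟩

/-- The centraliser in `M` of an element of order seven. -/
theorem Setup.cent_seven (hS : Setup J S) (H : Hyp G J T 4) {v : G} (hv : v ∈ M) (ho : orderOf v = 7) {c : G}
    (hc : c ∈ M) (hcv : c * v = v * c) : c ∈ zpowers v := by
  classical
  have h7 : v ^ 7 = 1 := by rw [← ho, pow_orderOf_eq_one]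
  set C : Subgroup G := M ⊓ centralizer ({v} : Set G) with hC
  have hvC : v ∈ C := ⟨hv, mem_centralizer_singleton_iff.2 rfl⟩
  have h2 : ∀ x ∈ C, x * x = 1 → x = 1 := by
    intro x hx hxx
    by_contra hx1
    have hvx : v ∈ centralizer ({x} : Set G) := by
      rw [mem_centralizer_singleton_iff]; exact (mem_centralizer_singleton_iff.1 hx.2).symm
    have := orderOf_dvd_natCard (⟨v, hvx⟩ : centralizer ({x} : Set G))
    rw [orderOf_mk, ho, (H.cent_four hxx hx1).1] at this
    norm_num at this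
  have h3 : ∀ x ∈ C, x ^ 3 = 1 → x = 1 := by
    intro x hx hx3
    have hxv : ∀ i : ℕ, Commute x (v ^ i) := fun i =>
      Commute.pow_right (mem_centralizer_singleton_iff.1 hx.2) i
    have hfix : x * J * x⁻¹ = J := by
      obtain ⟨a, ha⟩ := hS.conj_eq H hv ho hS.memJ H.J_ne (normalizer_conj hx.1 hS.memJ) (conj_ne_one x H.J_ne)
      have step : ∀ b : ZMod 7, x * (v ^ b.val * J * (v ^ b.val)⁻¹) * x⁻¹ = v ^ (b + a).val * J * (v ^ (b + a).val)⁻¹ := by
        intro b
        rw [pow_val_add h7]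
        calc x * (v ^ b.val * J * (v ^ b.val)⁻¹) * x⁻¹ = (x * v ^ b.val) * J * (x * v ^ b.val)⁻¹ := by group
          _ = v ^ b.val * (x * J * x⁻¹) * (v ^ b.val)⁻¹ := by rw [(hxv b.val).eq]; group
          _ = _ := by rw [← ha]; group
      have h0 : x * J * x⁻¹ = v ^ (0 + a).val * J * (v ^ (0 + a).val)⁻¹ := by rw [zero_add]; exact ha.symm
      have h : v ^ (a + a + a).val * J * (v ^ (a + a + a).val)⁻¹ = J := by
        rw [← step (a + a), ← step a, ha]
        calc x * (x * (x * J * x⁻¹) * x⁻¹) * x⁻¹ = (x * x * x) * J * (x * x * x)⁻¹ := by group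
          _ = J := by rw [show x * x * x = x ^ 3 by rw [pow_succ, pow_two], hx3]; group
      have ha0 : a + a + a = 0 := (hS.orbit H hv ho hS.memJ H.J_ne).1
        (Subtype.ext (by simpa using h) : (⟨_, _⟩ : {x : G // x ∈ S ∧ x ≠ 1}) = ⟨_, _⟩)
      have ha1 : ∀ a : ZMod 7, a + a + a = 0 → a = 0 := by decide
      rw [ha1 a ha0] at ha
      simpa using ha.symm
    have hsq : x * x = 1 := by
      refine (H.cent_four H.sq H.J_ne).2.2.2 x (mem_centralizer_singleton_iff.2 (mul_inv_eq_iff_eq_mul.1 hfix))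
        fun p hp hpp => ?_
      have hpS := hS.cent J hS.memJ H.J_ne p hp hpp
      by_cases hp1 : p = 1
      · simp [hp1]
      obtain ⟨i, rfl⟩ := hS.conj_eq H hv ho hS.memJ H.J_ne hpS hp1
      refine mul_inv_eq_iff_eq_mul.1 ?_
      calc x * (v ^ i.val * J * (v ^ i.val)⁻¹) * x⁻¹ = (x * v ^ i.val) * J * (x * v ^ i.val)⁻¹ := by group
        _ = v ^ i.val * (x * J * x⁻¹) * (v ^ i.val)⁻¹ := by rw [(hxv i.val).eq]; group
        _ = _ := by rw [hfix]
    rwa [pow_succ, pow_two, hsq, one_mul] at hx3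
  have hcard : Nat.card C = 7 := by
    have hd : Nat.card C ∣ 168 := hS.card_normalizer H ▸ card_dvd_of_le inf_le_left
    have h7d : 7 ∣ Nat.card C := by
      have := orderOf_dvd_natCard (⟨v, hvC⟩ : C)
      rwa [orderOf_mk, ho] at this
    have n2 : ¬ 2 ∣ Nat.card C := fun h => by
      haveI : Fact (Nat.Prime 2) := ⟨Nat.prime_two⟩
      obtain ⟨x, hx⟩ := exists_prime_orderOf_dvd_card' 2 h
      have hxx : x ^ 2 = 1 := hx ▸ pow_orderOf_eq_one x
      have := h2 x x.2 (by rw [← pow_two]; exact congrArg Subtype.val hxx)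
      rw [show x = 1 from Subtype.ext this, orderOf_one] at hx
      omega
    have n3 : ¬ 3 ∣ Nat.card C := fun h => by
      haveI : Fact (Nat.Prime 3) := ⟨Nat.prime_three⟩
      obtain ⟨x, hx⟩ := exists_prime_orderOf_dvd_card' 3 h
      have := h3 x x.2 (congrArg Subtype.val (hx ▸ pow_orderOf_eq_one x : x ^ 3 = 1))
      rw [show x = 1 from Subtype.ext this, orderOf_one] at hx
      omega
    have hmem : Nat.card C ∈ Nat.divisors 168 := Nat.mem_divisors.2 ⟨hd, by norm_num⟩
    exact seven_of_divisor _ hmem h7d n2 n3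
  have heq : zpowers v = C := eq_of_le_of_card_ge (zpowers_le.2 hvC) (by rw [hcard, Nat.card_zpowers, ho])
  rw [heq]
  exact ⟨hc, mem_centralizer_singleton_iff.2 hcv⟩

/-- An element of odd order normalising `⟨v⟩` by an involutory action lies in it. -/
theorem Setup.mem_of_sq (hS : Setup J S) (H : Hyp G J T 4) {v : G} (hv : v ∈ M) (ho : orderOf v = 7) {d : G}
    (hd : d ∈ M) (hodd : Odd (orderOf d)) (hdv : d * v * d⁻¹ = d⁻¹ * v * d) : d ∈ zpowers v := by
  have h2 : d * d * v = v * (d * d) := by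
    calc d * d * v = d * (d * v * d⁻¹) * d := by group
      _ = _ := by rw [hdv]; group
  obtain ⟨i, hi⟩ := hodd
  have hpow : (d * d) ^ (i + 1) = d := by
    rw [← pow_two, ← pow_mul, show 2 * (i + 1) = orderOf d + 1 by omega, pow_succ, pow_orderOf_eq_one, one_mul]
  rw [← hpow]
  exact pow_mem (hS.cent_seven H hv ho (mul_mem hd hd) h2) _

/-- The intersection of `M` with a conjugate. -/
def inter (S : Subgroup G) (g : G) : Subgroup G :=
  Subgroup.normalizer (S : Set G) ⊓ (Subgroup.normalizer (S : Set G)).comap (MulAut.conj g⁻¹).toMonoidHom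

theorem mem_inter {g d : G} : d ∈ inter S g ↔ d ∈ M ∧ g⁻¹ * d * g ∈ M := by
  simp [inter]

theorem Setup.card_inter (hS : Setup J S) (H : Hyp G J T 4) {g : G} (hg : g ∉ M) : Nat.card (inter S g) ∣ 21 := by
  have hd : Nat.card (inter S g) ∣ 168 := hS.card_normalizer H ▸ card_dvd_of_le inf_le_left
  have h2 : ¬ 2 ∣ Nat.card (inter S g) := fun h => by
    haveI : Fact (Nat.Prime 2) := ⟨Nat.prime_two⟩
    obtain ⟨x, hx⟩ := exists_prime_orderOf_dvd_card' 2 h
    have hxx : x ^ 2 = 1 := hx ▸ pow_orderOf_eq_one x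
    have hm := mem_inter.1 x.2
    have := hS.embedded hg hm.1 hm.2 (by rw [← pow_two]; exact congrArg Subtype.val hxx)
    rw [show x = 1 from Subtype.ext this, orderOf_one] at hx
    omega
  have hmem : Nat.card (inter S g) ∈ Nat.divisors 168 := Nat.mem_divisors.2 ⟨hd, by norm_num⟩
  exact twentyone_of_divisor _ hmem h2

theorem odd_of_inter (hS : Setup J S) (H : Hyp G J T 4) {g d : G} (hg : g ∉ M) (hd : d ∈ inter S g) :
    Odd (orderOf d) := by
  have h := orderOf_dvd_natCard (⟨d, hd⟩ : inter S g)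
  rw [orderOf_mk] at h
  exact (show Odd 21 by decide).of_dvd_nat (h.trans (hS.card_inter H hg))

theorem Setup.seven_unique (hS : Setup J S) (H : Hyp G J T 4) {g u v : G} (hg : g ∉ M) (hu : u ∈ inter S g)
    (hv : v ∈ inter S g) (huo : orderOf u = 7) (hvo : orderOf v = 7) : u ∈ zpowers v := by
  classical
  by_contra hne
  have hdisj : zpowers u ⊓ zpowers v = ⊥ := by
    have hd : Nat.card (zpowers u ⊓ zpowers v : Subgroup G) ∣ 7 := by
      have := card_dvd_of_le (inf_le_left : zpowers u ⊓ zpowers v ≤ zpowers u)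
      rwa [Nat.card_zpowers, huo] at this
    rcases (Nat.dvd_prime (by norm_num)).1 hd with h | h
    · exact Subgroup.card_eq_one.1 h
    · exfalso
      have : zpowers u ⊓ zpowers v = zpowers u :=
        eq_of_le_of_card_ge inf_le_left (by rw [h, Nat.card_zpowers, huo])
      exact hne ((inf_eq_left.1 this) (mem_zpowers u))
  let f : zpowers u × zpowers v → inter S g := fun q =>
    ⟨(q.1 : G) * q.2, mul_mem (zpowers_le.2 hu q.1.2) (zpowers_le.2 hv q.2.2)⟩
  have hf : Function.Injective f := by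
    intro a b h
    exact mul_injective_of_disjoint (disjoint_iff.2 hdisj) (congrArg Subtype.val h)
  have h49 := Nat.card_le_card_of_injective f hf
  rw [Nat.card_prod, Nat.card_zpowers, Nat.card_zpowers, huo, hvo] at h49
  have := Nat.le_of_dvd (by norm_num) (hS.card_inter H hg)
  omega

/-- The involutions in the coset of the involution `x`. -/
abbrev Fiber (S : Subgroup G) (x : G) : Type u := {x' : G // x' * x' = 1 ∧ x * x' ∈ Subgroup.normalizer (S : Set G)}

theorem fiber_props {x x' : G} (hxx : x * x = 1) (hx' : x' * x' = 1) (hm : x * x' ∈ M) :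
    x * x' ∈ inter S x ∧ x * (x * x') * x = (x * x')⁻¹ := by
  have hxi : x⁻¹ = x := inv_eq_of_mul_eq_one_left hxx
  have e : x * (x * x') * x = (x * x')⁻¹ := by
    rw [mul_inv_rev, inv_eq_of_mul_eq_one_left hx', hxi]
    calc x * (x * x') * x = x * x * (x' * x) := by group
      _ = _ := by rw [hxx, one_mul]
  refine ⟨mem_inter.2 ⟨hm, ?_⟩, e⟩
  rw [hxi, e]
  exact inv_mem hm

theorem Setup.inverted_mem (hS : Setup J S) (H : Hyp G J T 4) {x v d : G} (hxx : x * x = 1) (hx : x ∉ M)
    (hv : v ∈ inter S x) (ho : orderOf v = 7) (hd : d ∈ inter S x) (hdx : x * d * x = d⁻¹) : d ∈ zpowers v := by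
  have hxi : x⁻¹ = x := inv_eq_of_mul_eq_one_left hxx
  have hvM := (mem_inter.1 hv).1
  have hinj : ∀ a : G, orderOf (x * a * x⁻¹) = orderOf a := fun a =>
    orderOf_injective (MulAut.conj x).toMonoidHom (MulAut.conj x).injective a
  -- the image of `v`
  have hva : x * v * x ∈ inter S x := by
    obtain ⟨h1, h2⟩ := mem_inter.1 hv
    rw [hxi] at h2
    refine mem_inter.2 ⟨h2, ?_⟩
    rw [hxi, show x * (x * v * x) * x = x * x * v * (x * x) by group, hxx, one_mul, mul_one]
    exact h1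
  have hvao : orderOf (x * v * x) = 7 := by
    have := hinj v; rwa [hxi, ho] at this
  obtain ⟨e, he⟩ := mem_zpowers_iff.1 (hS.seven_unique H hx hva hv hvao ho)
  -- the image under `d`
  have hdv : d * v * d⁻¹ ∈ inter S x := mul_mem (mul_mem hd hv) (inv_mem hd)
  have hdvo : orderOf (d * v * d⁻¹) = 7 := by
    rw [← ho]; exact orderOf_injective (MulAut.conj d).toMonoidHom (MulAut.conj d).injective v
  obtain ⟨f, hf⟩ := mem_zpowers_iff.1 (hS.seven_unique H hx hdv hv hdvo ho)
  have cj : ∀ (a : G) (n : ℤ), x * a ^ n * x = (x * a * x) ^ n := fun a n => by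
    have h := conj_zpow (i := n) (a := x) (b := a)
    rw [hxi] at h
    exact h.symm
  have hback : (x * v * x) ^ e = v := by
    rw [← cj, he, show x * (x * v * x) * x = x * x * v * (x * x) by group, hxx, one_mul, mul_one]
  have key : d⁻¹ * (x * v * x) * d = (x * v * x) ^ f := by
    have hd' : d = x * d⁻¹ * x := by
      rw [← hdx, show x * (x * d * x) * x = x * x * d * (x * x) by group, hxx, one_mul, mul_one]
    calc d⁻¹ * (x * v * x) * d = (x * d * x) * (x * v * x) * (x * d⁻¹ * x) := by rw [← hd', hdx]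
      _ = x * d * (x * x) * v * (x * x) * d⁻¹ * x := by group
      _ = x * (d * v * d⁻¹) * x := by rw [hxx]; group
      _ = _ := by rw [← hf, cj]
  have key' : d⁻¹ * v * d = v ^ f := by
    have h := conj_zpow (i := e) (a := d⁻¹) (b := x * v * x)
    rw [inv_inv, key, hback] at h
    rw [← h, ← zpow_mul, mul_comm, zpow_mul, hback]
  refine hS.mem_of_sq H hvM ho (mem_inter.1 hd).1 (odd_of_inter hS H hx hd) ?_
  rw [key', hf]

theorem Setup.fiber (hS : Setup J S) (H : Hyp G J T 4) {x : G} (hxx : x * x = 1) (hx : x ∉ M) :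
    Nat.card (Fiber S x) ≤ 7 ∧ (Nat.card (Fiber S x) = 7 → ∃ v, v ∈ inter S x ∧ orderOf v = 7 ∧ x * v * x = v⁻¹) := by
  classical
  by_cases h : ∃ v, v ∈ inter S x ∧ orderOf v = 7
  · obtain ⟨v, hv, ho⟩ := h
    let f : Fiber S x → zpowers v := fun x' => ⟨x * x'.1,
      hS.inverted_mem H hxx hx hv ho (fiber_props hxx x'.2.1 x'.2.2).1 (fiber_props hxx x'.2.1 x'.2.2).2⟩
    have hf : Function.Injective f := fun a b h => Subtype.ext (mul_left_cancel (congrArg Subtype.val h :))
    have hz : Nat.card (zpowers v) = 7 := by rw [Nat.card_zpowers, ho]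
    refine ⟨hz ▸ Nat.card_le_card_of_injective f hf, fun h7 => ⟨v, hv, ho, ?_⟩⟩
    obtain ⟨x', hx'⟩ := (hf.bijective_of_nat_card_le (by omega)).2 ⟨v, mem_zpowers v⟩
    have hv' : x * x'.1 = v := congrArg Subtype.val hx'
    rw [← hv']
    exact (fiber_props hxx x'.2.1 x'.2.2).2
  · let f : Fiber S x → inter S x := fun x' => ⟨x * x'.1, (fiber_props hxx x'.2.1 x'.2.2).1⟩
    have hf : Function.Injective f := fun a b h => Subtype.ext (mul_left_cancel (congrArg Subtype.val h :))
    have h1 := Nat.card_le_card_of_injective f hf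
    have h3 : Nat.card (inter S x) ≤ 3 := by
      have hd := hS.card_inter H hx
      have n7 : ¬ 7 ∣ Nat.card (inter S x) := fun h7 => by
        haveI : Fact (Nat.Prime 7) := ⟨by norm_num⟩
        obtain ⟨v, hv⟩ := exists_prime_orderOf_dvd_card' 7 h7
        exact h ⟨v, v.2, by rw [← hv, Subgroup.orderOf_coe]⟩
      refine Nat.le_of_dvd (by norm_num) ?_
      refine Nat.Coprime.dvd_of_dvd_mul_right ?_ (show Nat.card (inter S x) ∣ 3 * 7 from hd)
      exact ((Nat.Prime.coprime_iff_not_dvd (by norm_num)).2 n7).symm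
    exact ⟨by omega, fun h7 => by omega⟩

end Cfsg.Lib.TwoTimesAlt
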